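import Cfsg.Agent.BlockThms.OrderP.Coord
import Cfsg.Agent.BlockChar.Cyclic.PrimeShape

/-!
# Faithful characters of degree `p - 2`: the eigenlines of an element of order `p`
-/

set_option autoImplicit false
set_option linter.unusedSectionVars false

open Cfsg
open scoped ComplexConjugate

namespace Cfsg.Agent.Fg24.SmallDeg

open Cfsg.Agent.BlockThms.OrderP

universe u

variable {G : Type u} [Group G] [Fintype G] {p : ℕ} [Fact p.Prime]

theorem psi_primitive : IsPrimitiveRoot (psi p 1) p := by
  have hp : p.Prime := Fact.out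
  refine IsPrimitiveRoot.iff_orderOf.2 (orderOf_eq_prime ?_ fun h => ?_)
  · rw [← AddChar.map_nsmul_eq_pow, nsmul_one, ZMod.natCast_self, AddChar.map_zero_eq_one]
  · rw [← AddChar.map_zero_eq_one (psi p)] at h
    exact one_ne_zero (ZMod.injective_stdAddChar h)

theorem psi_pow (a : ZMod p) (n : ℕ) : psi p a ^ n = psi p ((n : ZMod p) * a) := by
  rw [← AddChar.map_nsmul_eq_pow, nsmul_eq_mul]

theorem conj_psi (a : ZMod p) : conj (psi p a) = psi p (-a) :=
  (AddChar.map_neg_eq_conj _ _).symm

/-- Orthogonality of the exponentials. -/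
theorem parseval (f g : ZMod p → ℂ) :
    ∑ t, (∑ s, f s * psi p (s * t)) * conj (∑ s, g s * psi p (s * t)) =
      (p : ℂ) * ∑ s, f s * conj (g s) := by
  classical
  simp only [map_sum, map_mul, conj_psi, Finset.sum_mul_sum]
  rw [Finset.sum_comm, Finset.mul_sum]
  refine Finset.sum_congr rfl fun s _ => ?_
  rw [Finset.sum_comm, Finset.sum_eq_single s]
  · rw [Finset.sum_congr rfl (g := fun _ => f s * conj (g s)) (fun t _ => by
      rw [mul_mul_mul_comm, ← AddChar.map_add_eq_mul, add_neg_cancel, AddChar.map_zero_eq_one,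
        mul_one]), Finset.sum_const, Finset.card_univ, ZMod.card, nsmul_eq_mul]
  · intro r _ hr
    rw [Finset.sum_congr rfl (g := fun t => f s * conj (g r) * psi p ((s - r) * t)) (fun t _ => by
      rw [mul_mul_mul_comm, ← AddChar.map_add_eq_mul]; ring_nf),
      ← Finset.mul_sum, sum_psi, if_neg (sub_ne_zero.2 (Ne.symm hr)), mul_zero]
  · exact fun h => absurd (Finset.mem_univ _) h

theorem inversion (f : ZMod p → ℂ) (r : ZMod p) :
    ∑ t, (∑ s, f s * psi p (s * t)) * psi p (-(r * t)) = (p : ℂ) * f r := by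
  classical
  simp only [Finset.sum_mul]
  rw [Finset.sum_comm, Finset.sum_eq_single r]
  · rw [Finset.sum_congr rfl (g := fun _ => f r) (fun t _ => by
      rw [mul_assoc, ← AddChar.map_add_eq_mul, add_neg_cancel, AddChar.map_zero_eq_one, mul_one]),
      Finset.sum_const, Finset.card_univ, ZMod.card, nsmul_eq_mul]
  · intro s _ hs
    rw [Finset.sum_congr rfl (g := fun t => f s * psi p ((s - r) * t)) (fun t _ => by
      rw [mul_assoc, ← AddChar.map_add_eq_mul]; ring_nf),
      ← Finset.mul_sum, sum_psi, if_neg (sub_ne_zero.2 hs), mul_zero]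
  · exact fun h => absurd (Finset.mem_univ _) h

/-- The data of a faithful irreducible character of degree `p - 2`. -/
structure Datum (P : Sylow p G) (ζ : IrrCharacter G) where
  seven_le : 7 ≤ p
  setup : Setup P 2
  x : G
  x_mem : x ∈ (P : Subgroup G)
  x_ord : orderOf x = p
  deg : (ζ : G → ℂ) 1 = (p : ℂ) - 2
  /-- The omitted pair of eigenvalues. -/
  i : ZMod p
  i_ne : i ≠ 0
  /-- The actions of the centralizer on the eigenlines. -/
  θ : ZMod p → G → ℂ
  θ_i : ∀ g, θ i g = 0
  θ_neg_i : ∀ g, θ (-i) g = 0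
  θ_mul : ∀ r, ∀ c ∈ Subgroup.centralizer (P : Set G), ∀ d ∈ Subgroup.centralizer (P : Set G),
    θ r (c * d) = θ r c * θ r d
  θ_one : ∀ r, r ≠ i → r ≠ -i → θ r 1 = 1
  val : ∀ (t : ZMod p), ∀ c ∈ Subgroup.centralizer (P : Set G),
    (ζ : G → ℂ) (pw x t * c) = ∑ r, θ r c * psi p (r * t)
  comm : ∀ c ∈ Subgroup.centralizer (P : Set G), ∀ d ∈ Subgroup.centralizer (P : Set G),
    c * d = d * c
  /-- An element inverting `P`. -/
  a : G
  a_mem : a ∈ Subgroup.normalizer (P : Set G)
  a_inv : ∀ t : ZMod p, a * pw x t * a⁻¹ = pw x (-t)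
  a_sq : a * a ∈ Subgroup.centralizer (P : Set G)
  a_sq_reg : ¬ p ∣ orderOf (a * a)
  a_cases : ∀ n ∈ Subgroup.normalizer (P : Set G),
    n ∈ Subgroup.centralizer (P : Set G) ∨ n * a⁻¹ ∈ Subgroup.centralizer (P : Set G)

set_option maxHeartbeats 1000000 in
theorem exists_datum (hp7 : 7 ≤ p) (P : Sylow p G) (hP : Nat.card (P : Subgroup G) = p)
    (hnn : ¬ (P : Subgroup G).Normal) (ζ : IrrCharacter G)
    (hfaith : ∀ g : G, (ζ : G → ℂ) g = (ζ : G → ℂ) 1 → g = 1)
    (hdeg : charDegree (ζ : G → ℂ) = p - 2) : Nonempty (Datum P ζ) := by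
  classical
  have hp : p.Prime := Fact.out
  have : Fintype (P : Subgroup G) := Fintype.ofFinite _
  have hd : (ζ : G → ℂ) 1 = (p : ℂ) - 2 := by
    rw [← Blocks.charDegree_cast (Char.IsIrr.isCharacter ζ.2), hdeg,
      Nat.cast_sub (by omega : 2 ≤ p), Nat.cast_two]
  obtain ⟨e, he⟩ : ∃ e, e = (Subgroup.centralizer (P : Set G)).relIndex
    (Subgroup.normalizer (P : Set G)) := ⟨_, rfl⟩
  have hS : Setup P e := ⟨hP, he.symm⟩
  obtain ⟨x, hx, hx1, hxo⟩ := hS.exists_gen
  obtain ⟨hedvd, U, hU, hUc, hUN, hUc'⟩ := hS.exists_unitSet hx hxo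
  have hpwP : ∀ t : ZMod p, pw x t ∈ (P : Subgroup G) := fun t => pow_mem hx _
  obtain ⟨d, ρ, hρirr, hρ⟩ := ζ.2
  have hdp : d + 2 = p := by
    have h := hd
    rw [← hρ, ρ.char_one, Module.finrank_fin_fun] at h
    have h2 : ((d + 2 : ℕ) : ℂ) = (p : ℂ) := by push_cast; linear_combination h
    exact_mod_cast h2
  have hid : ∀ g : G, ρ g = 1 → g = 1 := fun g hg => hfaith g (by
    have h : ρ.character g = ρ.character 1 := by
      show LinearMap.trace ℂ _ (ρ g) = LinearMap.trace ℂ _ (ρ 1)
      rw [hg, map_one ρ]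
    rwa [hρ] at h)
  have hxp : (ρ x) ^ p = 1 := by rw [← map_pow, ← hxo, pow_orderOf_eq_one, map_one]
  obtain ⟨ι, hι, μ, b, hb, hμ, hιc⟩ : ∃ (ι : Type) (_ : Fintype ι) (μ : ι → ℂ)
      (b : Module.Basis ι ℂ (Fin d → ℂ)), (∀ k, ρ x (b k) = μ k • b k) ∧
      (∀ k, μ k ^ p = 1) ∧ Fintype.card ι = d := by
    obtain ⟨μ, b, hb, hμ⟩ := Char.exists_eigenbasis_of_pow_eq_one (ρ x) hp.ne_zero hxp
    exact ⟨_, inferInstance, μ, b, hb, hμ, by rw [Fintype.card_fin, Module.finrank_fin_fun]⟩
  have hr : ∀ k, ∃ r : ZMod p, μ k = psi p r := fun k => by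
    obtain ⟨j, -, hj⟩ := psi_primitive.eq_pow_of_pow_eq_one (hμ k)
    exact ⟨_, hj.symm.trans (psi_pow 1 j)⟩
  choose r hr using hr
  have hpow : ∀ (t : ZMod p) (k : ι), ρ (pw x t) (b k) = psi p (r k * t) • b k := by
    intro t k
    have h : ∀ n : ℕ, ρ (x ^ n) (b k) = μ k ^ n • b k := fun n => by
      induction n with
      | zero => simp
      | succ n ih => rw [pow_succ', map_mul, Module.End.mul_apply, ih, map_smul, hb, smul_smul,
          pow_succ]
    rw [pw, h, hr, psi_pow, ZMod.natCast_zmod_val, mul_comm]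
  set n : ZMod p → ℕ := fun s => (Finset.univ.filter fun k => r k = s).card with hn
  have hnsum : ∑ s, n s = d := by
    rw [← hιc, ← Finset.card_univ, ← Finset.card_eq_sum_card_fiberwise
      (fun k _ => Finset.mem_univ (r k))]
  have hvalP : ∀ t, (ζ : G → ℂ) (pw x t) = ∑ s, (n s : ℂ) * psi p (s * t) := by
    intro t
    rw [← hρ]
    show LinearMap.trace ℂ _ (ρ (pw x t)) = _
    rw [Char.trace_eq_sum_of_eigenbasis _ b _ (hpow t), ← Finset.sum_fiberwise Finset.univ r]
    refine Finset.sum_congr rfl fun s _ => ?_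
    rw [Finset.sum_congr rfl (g := fun _ => psi p (s * t)) (fun k hk => by
      rw [(Finset.mem_filter.1 hk).2]), Finset.sum_const, nsmul_eq_mul]
  have hnpos : ∀ k, n (r k) ≠ 0 := fun k => Finset.card_ne_zero.2
    ⟨k, Finset.mem_filter.2 ⟨Finset.mem_univ k, rfl⟩⟩
  -- the linear characters of `P`
  have hlg : ∀ t : ZMod p, lg x (pw x t) = t := fun t => lg_pw hxo t
  let η : ZMod p → IrrCharacter (P : Subgroup G) := fun s =>
    ⟨fun w => (((MonoidHom.toHomUnits
      ({ toFun := fun w => psi p (s * lg x (w : G))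
         map_one' := by
          have h : ((1 : (P : Subgroup G)) : G) = pw x (0 : ZMod p) := by simp [pw]
          rw [h, hlg, mul_zero, AddChar.map_zero_eq_one]
         map_mul' := fun u v => by
          obtain ⟨t, ht⟩ := hS.exists_pw hx hxo u.2
          obtain ⟨t', ht'⟩ := hS.exists_pw hx hxo v.2
          rw [Subgroup.coe_mul, ← ht, ← ht', ← pw_add hxo, hlg, hlg, hlg, mul_add,
            AddChar.map_add_eq_mul] } : (P : Subgroup G) →* ℂ)) w : ℂˣ) : ℂ),
      Char.isIrrCharacter_hom _⟩
  have hη : ∀ (s t : ZMod p) (w : (P : Subgroup G)), (w : G) = pw x t →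
      (η s : ↥(P : Subgroup G) → ℂ) w = psi p (s * t) := fun s t w hw => by
    show psi p (s * lg x (w : G)) = _
    rw [hw, hlg]
  have hηinj : Function.Injective η := fun s s' h => by
    have h2 := congrArg (fun f : IrrCharacter (P : Subgroup G) =>
      (f : ↥(P : Subgroup G) → ℂ) ⟨_, hpwP 1⟩) h
    simp only [hη _ 1 ⟨_, hpwP 1⟩ rfl, mul_one] at h2
    exact ZMod.injective_stdAddChar h2
  have hres : ∀ s, Blocks.resMult ζ (η s) = n s := by
    intro s
    have h := Blocks.resMult_spec ζ (η s)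
    rw [classInner, hS.card, inv_mul_eq_iff_eq_mul₀ (Nat.cast_ne_zero.2 hp.ne_zero)] at h
    have h2 : ∑ w : (P : Subgroup G), (ζ : G → ℂ) (w : G) *
        conj ((η s : ↥(P : Subgroup G) → ℂ) w) =
        ∑ t : ZMod p, (∑ q, (n q : ℂ) * psi p (q * t)) * psi p (-(s * t)) := by
      symm
      refine Fintype.sum_bijective (fun t => (⟨pw x t, hpwP t⟩ : (P : Subgroup G)))
        ⟨fun t t' h => pw_injective hxo (congrArg Subtype.val h), fun w => by
          obtain ⟨t, ht⟩ := hS.exists_pw hx hxo w.2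
          exact ⟨t, Subtype.ext ht⟩⟩ _ _ fun t => ?_
      rw [hη s t ⟨_, hpwP t⟩ rfl, conj_psi, ← hvalP]
    rw [h2, inversion] at h
    exact_mod_cast (mul_left_cancel₀ (Nat.cast_ne_zero.2 hp.ne_zero) h).symm
  have hsq : ¬ p ^ 2 ∣ Nat.card G := by
    rw [hp.pow_dvd_iff_le_factorization Nat.card_pos.ne', hS.factorization.2]
    omega
  obtain ⟨M, hM⟩ := Blocks.exists_isPModular p hp
  obtain ⟨η₀, hshape, -⟩ := BlockChar.PrimeShape.exists_shape hP hsq hM ζ (fun h => by
    have := Nat.le_of_dvd (by omega) (hdeg ▸ h)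
    omega)
  obtain ⟨r₀, rfl⟩ : ∃ s, η s = η₀ :=
    ((Fintype.bijective_iff_injective_and_card η).2 ⟨hηinj, by
      rw [ZMod.card, BlockChar.PrimeShape.card_irr hP]⟩).2 η₀
  set O := U.image fun v => r₀ * v with hO
  have htw : ∀ (m : G) (hm : m ∈ Subgroup.normalizer (P : Set G)) (v s : ZMod p),
      (∀ t : ZMod p, m * pw x t * m⁻¹ = pw x (v * t)) →
        BlockChar.Cyclic.twistIrr (η s) hm = η (s * v) := by
    intro m hm v s hv
    refine Subtype.ext (funext fun w => ?_)
    obtain ⟨t, ht⟩ := hS.exists_pw hx hxo w.2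
    rw [BlockChar.Cyclic.twistIrr_apply _ hm w ⟨pw x (v * t), hpwP _⟩
        (by show pw x (v * t) = m * (w : G) * m⁻¹; rw [← ht, hv]),
      hη _ _ _ rfl, hη _ t w ht.symm, mul_assoc]
  have hconjU : ∀ v ∈ U, ∃ m, ∃ _ : m ∈ Subgroup.normalizer (P : Set G),
      ∀ t : ZMod p, m * pw x t * m⁻¹ = pw x (v * t) := by
    intro v hv
    obtain ⟨m, hm⟩ := hUc' v hv 1
    have hne : pw x (v * 1) ≠ 1 := fun h => hU.ne_zero v hv (by
      have h2 : pw x (v * 1) = pw x (0 : ZMod p) := by rw [h]; simp [pw]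
      simpa using pw_injective hxo h2)
    have hmN : m ∈ Subgroup.normalizer (P : Set G) := hS.mem_normalizer (hpwP (v * 1)) hne (by
      rw [← hm, show m⁻¹ * (m * pw x (1 : ZMod p) * m⁻¹) * m = pw x (1 : ZMod p) by simp [mul_assoc]]
      exact hpwP 1)
    obtain ⟨v', hv', hv''⟩ := hUN m hmN
    refine ⟨m, hmN, ?_⟩
    have h3 : v' = v := by
      have h2 := pw_injective hxo ((hv'' 1).symm.trans hm)
      simpa using h2
    exact h3 ▸ hv''
  have horb : ∀ s, η s ∈ BlockChar.PrimeShape.orb (η r₀) → s ∈ O := by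
    intro s hs
    obtain ⟨m, hm, h⟩ := BlockChar.PrimeShape.mem_orb.1 hs
    obtain ⟨v, hv, hv'⟩ := hUN m hm
    rw [htw m hm v r₀ hv'] at h
    exact Finset.mem_image.2 ⟨v, hv, (hηinj h).symm⟩
  have hconst : ∀ s ∈ O, n s = n r₀ := by
    intro s hs
    obtain ⟨v, hv, rfl⟩ := Finset.mem_image.1 hs
    obtain ⟨m, hm, hm'⟩ := hconjU v hv
    rw [← hres, ← hres, ← htw m hm v r₀ hm', BlockChar.PrimeShape.resMult_twist hP]
  have hxc : ∀ ω : ℂ, ρ x = ω • (1 : Module.End ℂ (Fin d → ℂ)) → False := by
    intro ω hω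
    refine hnn ⟨fun w hw g => ?_⟩
    have hcom : x * g = g * x := by
      have h : g⁻¹ * x⁻¹ * (g * x) = 1 := hid _ (by
        rw [map_mul ρ (g⁻¹ * x⁻¹) (g * x), map_mul ρ g x, hω, mul_smul_comm, mul_one,
          ← one_mul (ρ g), ← smul_mul_assoc, ← hω, ← map_mul, ← map_mul,
          show g⁻¹ * x⁻¹ * (x * g) = 1 by group, map_one])
      calc x * g = x * g * (g⁻¹ * x⁻¹ * (g * x)) := by rw [h, mul_one]
        _ = g * x := by group
    obtain ⟨t, rfl⟩ := hS.exists_pw hx hxo hw
    rw [show g * pw x t * g⁻¹ = pw x t from mul_inv_eq_iff_eq_mul.2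
      ((show Commute g x from hcom.symm).pow_right _)]
    exact hw
  have hall0 : (∀ k, r k = 0) → False := fun h => hxc 1 (by
    rw [one_smul]
    refine b.ext fun k => ?_
    rw [hb, hr, h, AddChar.map_zero_eq_one, one_smul]
    rfl)
  -- the multiplicities
  obtain ⟨hr0, he2, hB, hout⟩ : r₀ ≠ 0 ∧ e = 2 ∧ n r₀ = 0 ∧ ∀ s ∉ O, n s = 1 := by
    have hlt : U.card < p := by
      rw [hUc]
      have := Nat.le_of_dvd (by omega) hedvd
      omega
    have hOc : r₀ ≠ 0 → O.card = e := fun h => by
      rw [hO, Finset.card_image_of_injective _ (mul_right_injective₀ h), hUc]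
    have hcount : ∀ A, (∀ s ∉ O, n s = A) → d = O.card * n r₀ + (p - O.card) * A := by
      intro A hA
      rw [← hnsum, ← Finset.sum_add_sum_compl O, Finset.sum_congr rfl hconst,
        Finset.sum_congr rfl (fun s hs => hA s (Finset.mem_compl.1 hs)), Finset.sum_const,
        Finset.sum_const, Finset.card_compl, ZMod.card, smul_eq_mul, smul_eq_mul]
    obtain ⟨q, hq⟩ : ∃ q : ZMod p, q ∉ O := by
      by_contra hall
      push Not at hall
      have h := Finset.card_le_card (fun s _ => hall s : (Finset.univ : Finset (ZMod p)) ⊆ O)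
      rw [Finset.card_univ, ZMod.card] at h
      have : O.card ≤ U.card := Finset.card_image_le
      omega
    have hA : ∀ s ∉ O, n s = n q := fun s hs => by
      rw [← hres, ← hres]
      exact hshape _ _ (fun h => hs (horb s h)) (fun h => hq (horb q h))
    have hd' := hcount _ hA
    by_cases hr0 : r₀ = 0
    · exfalso
      have hO0 : O = {0} := by
        rw [hO, hr0]
        ext s
        simp only [Finset.mem_image, zero_mul, Finset.mem_singleton]
        exact ⟨fun ⟨_, _, h⟩ => h.symm, fun h => ⟨1, hU.one, h.symm⟩⟩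
      rw [hO0, Finset.card_singleton] at hd'
      have hA0 : n q = 0 := by
        by_contra h
        have := Nat.le_mul_of_pos_right (p - 1) (Nat.pos_of_ne_zero h)
        omega
      refine hall0 fun k => ?_
      by_contra hk
      have hns : n (r k) = 0 := (hA _ (by rw [hO0]; simpa using hk)).trans hA0
      exact hnpos k hns
    · rw [hOc hr0] at hd'
      have he1 : e ≤ p - 1 := Nat.le_of_dvd (by omega) hedvd
      have hA1 : n q = 1 := by
        rcases (by omega : n q = 0 ∨ n q = 1 ∨ 2 ≤ n q) with h | h | h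
        · exfalso
          rw [h, mul_zero, add_zero] at hd'
          have h1 : e ∣ p - 2 := ⟨n r₀, by omega⟩
          have h2 := Nat.dvd_sub hedvd h1
          rw [show p - 1 - (p - 2) = 1 by omega] at h2
          have he' : e = 1 := Nat.dvd_one.1 h2
          have hOs : O = {r₀} := by
            refine (Finset.eq_of_subset_of_card_le (Finset.singleton_subset_iff.2
              (Finset.mem_image.2 ⟨1, hU.one, mul_one r₀⟩)) ?_).symm
            rw [hOc hr0, he', Finset.card_singleton]
          refine hxc (psi p r₀) (b.ext fun k => ?_)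
          have hk : r k = r₀ := by
            by_contra hk
            refine hnpos k ((hA (r k) (by rw [hOs]; simpa using hk)).trans h)
          rw [hb, hr, hk]
          rfl
        · exact h
        · exfalso
          have h1 := Nat.mul_le_mul_left (p - e) h
          have he' : e = p - 1 := by
            obtain ⟨m, hm⟩ := hedvd
            match m with
            | 0 => omega
            | 1 => omega
            | m + 2 =>
              have := Nat.mul_le_mul_left e (show 2 ≤ m + 2 by omega)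
              omega
          rw [he', show p - (p - 1) = 1 by omega, one_mul] at hd'
          have hB : n r₀ = 0 := by
            by_contra hB
            have := Nat.le_mul_of_pos_right (p - 1) (Nat.pos_of_ne_zero hB)
            omega
          refine hall0 fun k => ?_
          by_contra hk
          have hkO : r k ∈ O := by
            have h0 : (0 : ZMod p) ∉ O := fun h0 => by
              obtain ⟨v, hv, hv0⟩ := Finset.mem_image.1 h0
              exact (mul_ne_zero hr0 (hU.ne_zero v hv)) hv0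
            have hOe : O = Finset.univ.erase 0 := Finset.eq_of_subset_of_card_le
              (fun s hs => Finset.mem_erase.2 ⟨fun e0 => h0 (e0 ▸ hs), Finset.mem_univ s⟩)
              (by rw [Finset.card_erase_of_mem (Finset.mem_univ _), Finset.card_univ, ZMod.card,
                hOc hr0, he'])
            rw [hOe]
            exact Finset.mem_erase.2 ⟨hk, Finset.mem_univ _⟩
          exact hnpos k ((hconst _ hkO).trans hB)
      rw [hA1, mul_one] at hd'
      have hB : n r₀ = 0 := by
        by_contra hB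
        have := Nat.le_mul_of_pos_right e (Nat.pos_of_ne_zero hB)
        omega
      rw [hB, mul_zero, zero_add] at hd'
      exact ⟨hr0, by omega, hB, fun s hs => (hA s hs).trans hA1⟩
  subst he2
  have hUpm : ∀ v ∈ U, v = 1 ∨ v = -1 := by
    intro v hv
    by_cases h1 : v = 1
    · exact Or.inl h1
    right
    have hU2 : U = {1, v} := (Finset.eq_of_subset_of_card_le
      (Finset.insert_subset hU.one (Finset.singleton_subset_iff.2 hv))
      (by rw [hUc, Finset.card_pair (Ne.symm h1)])).symm
    have h2 := hU.mul v hv v hv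
    rw [hU2, Finset.mem_insert, Finset.mem_singleton] at h2
    rcases h2 with h2 | h2
    · exact (mul_self_eq_one_iff.1 h2).resolve_left h1
    · exact absurd ((mul_eq_left₀ (hU.ne_zero v hv)).1 h2) h1
  have hnneg : (-1 : ZMod p) ∈ U := by
    obtain ⟨v, hv, hv1⟩ : ∃ v ∈ U, v ≠ 1 := by
      by_contra hall
      push Not at hall
      have hU1 : U ⊆ {1} := fun v hv => Finset.mem_singleton.2 (hall v hv)
      have := Finset.card_le_card hU1
      rw [hUc, Finset.card_singleton] at this
      omega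
    exact (hUpm v hv).resolve_left hv1 ▸ hv
  have hOeq : ∀ s, s ∈ O ↔ s = r₀ ∨ s = -r₀ := by
    intro s
    constructor
    · intro hs
      obtain ⟨v, hv, rfl⟩ := Finset.mem_image.1 hs
      rcases hUpm v hv with rfl | rfl <;> simp
    · rintro (rfl | rfl)
      · exact Finset.mem_image.2 ⟨1, hU.one, mul_one _⟩
      · exact Finset.mem_image.2 ⟨-1, hnneg, by simp⟩
  have hrinj : Function.Injective r := by
    intro k l hkl
    by_contra hne
    have h2 : 2 ≤ n (r k) := by
      rw [← Finset.card_pair hne]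
      exact Finset.card_le_card (Finset.insert_subset (Finset.mem_filter.2 ⟨Finset.mem_univ k, rfl⟩)
        (Finset.singleton_subset_iff.2 (Finset.mem_filter.2 ⟨Finset.mem_univ l, hkl.symm⟩)))
    by_cases h : r k ∈ O
    · rw [hconst _ h, hB] at h2; omega
    · rw [hout _ h] at h2; omega
  have hrL : ∀ k, r k ∉ O := fun k h =>
    hnpos k ((hconst _ h).trans hB)
  -- the centralizer is diagonal
  set C := Subgroup.centralizer (P : Set G) with hC
  have hdiag : ∀ c ∈ C, ∀ k, ρ c (b k) = b.repr (ρ c (b k)) k • b k := by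
    intro c hc k
    have hcx : x * c = c * x := (Subgroup.mem_centralizer_iff.1 hc x hx)
    refine b.repr.injective (Finsupp.ext fun l => ?_)
    rw [map_smul, Finsupp.smul_apply, b.repr_self, Finsupp.single_apply]
    by_cases hkl : k = l
    · subst hkl; simp
    rw [if_neg hkl, smul_zero]
    have h1 : ρ x (ρ c (b k)) = μ k • ρ c (b k) := by
      rw [← Module.End.mul_apply, ← map_mul, hcx, map_mul, Module.End.mul_apply, hb, map_smul]
    have h2 : ∀ v : Fin d → ℂ, b.repr (ρ x v) l = μ l * b.repr v l := fun v => by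
      conv_lhs => rw [← b.sum_repr v]
      simp only [map_sum, map_smul, hb, b.repr_self, Finsupp.smul_single, smul_eq_mul, mul_one,
        Finsupp.finsetSum_apply, Finsupp.single_apply, smul_smul]
      rw [Finset.sum_ite_eq' Finset.univ l, if_pos (Finset.mem_univ l), mul_comm]
    have h3 := h2 (ρ c (b k))
    rw [h1, map_smul, Finsupp.smul_apply, smul_eq_mul] at h3
    have h4 : (μ k - μ l) * b.repr (ρ c (b k)) l = 0 := by linear_combination h3
    refine (mul_eq_zero.1 h4).resolve_left fun h5 => hkl (hrinj ?_)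
    rw [sub_eq_zero, hr, hr] at h5
    exact ZMod.injective_stdAddChar h5
  set ev : G → ι → ℂ := fun c k => b.repr (ρ c (b k)) k with hev
  have hevmul : ∀ c ∈ C, ∀ c' ∈ C, ∀ k, ev (c * c') k = ev c k * ev c' k := by
    intro c hc c' hc' k
    show b.repr (ρ (c * c') (b k)) k = _
    rw [map_mul, Module.End.mul_apply, hdiag c' hc' k, map_smul, hdiag c hc k]
    simp [hev, mul_comm]
  have hcomm : ∀ c ∈ C, ∀ c' ∈ C, c * c' = c' * c := by
    intro c hc c' hc'
    have h : ρ (c * c') = ρ (c' * c) := b.ext fun k => by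
      rw [hdiag _ (mul_mem hc hc'), hdiag _ (mul_mem hc' hc)]
      show ev (c * c') k • b k = ev (c' * c) k • b k
      rw [hevmul c hc c' hc', hevmul c' hc' c hc, mul_comm]
    have h2 : c * c' * (c' * c)⁻¹ = 1 := hid _ (by
      rw [map_mul, h, ← map_mul, mul_inv_cancel, map_one])
    exact mul_inv_eq_one.1 h2
  let θ : ZMod p → G → ℂ := fun s c => ∑ k ∈ Finset.univ.filter (fun k => r k = s), ev c k
  have hθsingle : ∀ k c, θ (r k) c = ev c k := fun k c => by
    show ∑ l ∈ Finset.univ.filter (fun l => r l = r k), ev c l = _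
    rw [Finset.sum_eq_single k (fun l hl hne => absurd (hrinj (Finset.mem_filter.1 hl).2) hne)
      (fun h => absurd (show k ∈ Finset.univ.filter (fun l => r l = r k) from
        Finset.mem_filter.2 ⟨Finset.mem_univ k, rfl⟩) h)]
  have hθ0 : ∀ s ∈ O, ∀ c, θ s c = 0 := fun s hs c =>
    Finset.sum_eq_zero fun k hk => absurd ((Finset.mem_filter.1 hk).2 ▸ hs) (hrL k)
  -- the inverting element
  obtain ⟨-, y, hyN, hygen, hypow, hyreg⟩ := hS.exists_y
  have hyinv : ∀ t : ZMod p, y * pw x t * y⁻¹ = pw x (-t) := by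
    obtain ⟨v, hv, hv'⟩ := hUN y hyN
    rcases hUpm v hv with rfl | rfl
    · exfalso
      have hyC : y ^ 1 ∈ C := by
        rw [pow_one, hC, ← hS.centralizer_eq hx hx1, Subgroup.mem_centralizer_singleton_iff]
        have h := hv' 1
        rw [one_mul, ← Nat.cast_one, pw_natCast hxo, pow_one] at h
        exact mul_inv_eq_iff_eq_mul.1 h
      exact absurd ((hypow 1).1 hyC) (by omega)
    · intro t
      rw [hv' t, neg_one_mul]
  exact ⟨{
    seven_le := hp7
    setup := hS
    x := x
    x_mem := hx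
    x_ord := hxo
    deg := hd
    i := r₀
    i_ne := hr0
    θ := θ
    θ_i := hθ0 _ ((hOeq _).2 (Or.inl rfl))
    θ_neg_i := hθ0 _ ((hOeq _).2 (Or.inr rfl))
    θ_mul := fun s c hc c' hc' => by
      by_cases h : ∃ k, r k = s
      · obtain ⟨k, rfl⟩ := h
        simp only [hθsingle]
        exact hevmul c hc c' hc' k
      · push Not at h
        have hz : ∀ g, θ s g = 0 := fun g =>
          Finset.sum_eq_zero fun k hk => absurd (Finset.mem_filter.1 hk).2 (h k)
        rw [hz, hz, zero_mul]
    θ_one := fun s h1 h2 => by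
      have hns := hout s fun h => ((hOeq s).1 h).elim h1 h2
      obtain ⟨k, hk⟩ := Finset.card_pos.1 (show 0 < n s by omega)
      rw [← (Finset.mem_filter.1 hk).2, hθsingle]
      simp [hev]
    val := fun t c hc => by
      rw [← hρ]
      show LinearMap.trace ℂ _ (ρ (pw x t * c)) = _
      rw [Char.trace_eq_sum_of_eigenbasis _ b (fun k => ev c k * psi p (r k * t)) (fun k => by
        rw [map_mul, Module.End.mul_apply, hdiag c hc k, map_smul, hpow, smul_smul]),
        ← Finset.sum_fiberwise Finset.univ r]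
      refine Finset.sum_congr rfl fun s _ => ?_
      rw [Finset.sum_mul]
      exact Finset.sum_congr rfl fun k hk => by rw [(Finset.mem_filter.1 hk).2]
    comm := hcomm
    a := y
    a_mem := hyN
    a_inv := hyinv
    a_sq := by rw [← pow_two]; exact (hypow 2).2 dvd_rfl
    a_sq_reg := by rw [← pow_two]; exact hyreg
    a_cases := fun m hm => by
      obtain ⟨j, hj⟩ := hygen m hm
      rcases Nat.even_or_odd j with ⟨q, hq⟩ | ⟨q, hq⟩
      · left
        have h := mul_mem hj ((hypow j).2 ⟨q, by omega⟩)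
        rwa [inv_mul_cancel_right] at h
      · right
        have h := mul_mem hj ((hypow (2 * q)).2 ⟨q, rfl⟩)
        rwa [show m * (y ^ j)⁻¹ * y ^ (2 * q) = m * y⁻¹ by rw [hq, pow_succ]; group] at h
  }⟩

end Cfsg.Agent.Fg24.SmallDeg
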