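import Cfsg.Agent.Fg24.SmallDeg.Coset
import Cfsg.Agent.Fg24.Brauer.Block

/-!
# Faithful characters of degree `p - 2`: the linear character in the block
-/

set_option autoImplicit false
set_option linter.unusedSectionVars false

open Cfsg
open scoped ComplexConjugate Classical

namespace Cfsg.Agent.Fg24.SmallDeg

open Cfsg.Agent.BlockThms.OrderP

universe u

variable {G : Type u} [Group G] [Fintype G] {p : ℕ} [Fact p.Prime] {P : Sylow p G}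
  {ζ : IrrCharacter G}

/-- A small arithmetic inequality. -/
theorem ratio_lt {w q : ℝ} (hw : 1 ≤ w) (hq : 7 ≤ q) :
    ((2 * w + 1) * (q - 1)) ^ 2 / (((w + 1) * q - 1) * (w * q + 1) * (q - 2)) <
      (q - 1) ^ 2 / q ^ 2 := by
  have h1 : 0 < (w + 1) * q - 1 := by nlinarith
  have h2 : 0 < w * q + 1 := by nlinarith
  rw [div_lt_div_iff₀ (by positivity [show (0 : ℝ) < q - 2 by linarith]) (by positivity)]
  have h3 : w * (w + 1) * q ^ 2 ≤ ((w + 1) * q - 1) * (w * q + 1) := by nlinarith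
  have h4 : (2 * w + 1) ^ 2 < w * (w + 1) * (q - 2) := by
    have : 0 < w * (w + 1) := by positivity
    nlinarith
  have h5 : (2 * w + 1) ^ 2 * q ^ 2 < ((w + 1) * q - 1) * (w * q + 1) * (q - 2) := by
    have h6 := mul_le_mul_of_nonneg_right h3 (show (0 : ℝ) ≤ q - 2 by linarith)
    nlinarith [mul_lt_mul_of_pos_right h4 (show (0 : ℝ) < q ^ 2 by positivity)]
  have h7 : 0 < (q - 1) ^ 2 := by nlinarith
  nlinarith [mul_lt_mul_of_pos_left h5 h7]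

variable (Dt : Datum P ζ)

namespace Datum

include Dt

theorem avg_fam_lam {u : ZMod p} (hu : u ≠ 0) {t : ZMod p} (ht : t ≠ 0) :
    Dt.avgK (Dt.θ Dt.j) (Dt.conjIrr u : G → ℂ) t =
      -(psi p (u * Dt.i * t) + psi p (-(u * Dt.i * t))) := by
  have hD : Dt.dot (Dt.θ 0) (Dt.θ Dt.j) = Dt.dot (Dt.θ Dt.j) (Dt.θ Dt.j) := by
    simp only [dot]
    congr 1
    exact Finset.sum_congr rfl fun k _ => by rw [Dt.θ_zero_eq k.2]
  rw [Dt.avg_fam hu ht, hD, Dt.dot_self Dt.lin_j]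
  ring

theorem avg_one_zero (θ : G → ℂ) (χ : G → ℂ) :
    Dt.avgK θ χ 0 = (Nat.card Dt.K : ℂ)⁻¹ * ∑ k : Dt.K, χ k * conj (θ k) := by
  simp only [avgK, Dt.pw_zero, one_mul]

theorem sum_t (f : ZMod p → ℂ) (c : ℂ) (h : ∀ t, t ≠ 0 → f t = c) :
    ∑ t, f t = f 0 + ((p : ℂ) - 1) * c := by
  rw [← Finset.add_sum_erase _ _ (Finset.mem_univ (0 : ZMod p)),
    Finset.sum_congr rfl (g := fun _ => c) (fun t ht => h t (Finset.mem_erase.1 ht).1),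
    Finset.sum_const, Finset.card_erase_of_mem (Finset.mem_univ _), Finset.card_univ, ZMod.card,
    nsmul_eq_mul, Nat.cast_sub (Fact.out : p.Prime).one_le, Nat.cast_one]

theorem one_irr (χ : IrrCharacter G) : ∃ d : ℕ, 0 < d ∧ (χ : G → ℂ) 1 = d :=
  ⟨_, Blocks.charDegree_pos χ.2, (Blocks.charDegree_cast (Char.IsIrr.isCharacter χ.2)).symm⟩

variable (hKZ : Dt.K = Subgroup.center G)
include hKZ

/-- The two characters outside the family with nonzero averaged values. -/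
theorem exists_pair :
    ∃ ρ₁ ρ₂ : IrrCharacter G, ∃ w : ℕ, ρ₁ ≠ ρ₂ ∧ ρ₁ ∉ Dt.fam ∧ ρ₂ ∉ Dt.fam ∧
      (∀ t, t ≠ 0 → Dt.avgK (Dt.θ Dt.j) (ρ₁ : G → ℂ) t = -1) ∧
      (∀ t, t ≠ 0 → Dt.avgK (Dt.θ Dt.j) (ρ₂ : G → ℂ) t = 1) ∧
      (∀ χ : IrrCharacter G, χ ∉ Dt.fam → χ ≠ ρ₁ → χ ≠ ρ₂ →
        Dt.avgK (Dt.θ Dt.j) (χ : G → ℂ) 1 = 0) ∧
      (ρ₂ : G → ℂ) 1 = (w : ℂ) * p + 1 ∧ (ρ₁ : G → ℂ) 1 = (w : ℂ) * p + (p : ℂ) - 1 ∧
      ∀ g, ¬ p ∣ orderOf g → (ρ₁ : G → ℂ) g = (ρ₂ : G → ℂ) g + (ζ : G → ℂ) g := by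
  have hp : p.Prime := Fact.out
  have h1p : (1 : ZMod p) ≠ 0 := one_ne_zero
  set S : Finset (IrrCharacter G) := Finset.univ \ Dt.fam with hS
  have hout : ∀ χ : IrrCharacter G, χ ∈ S → ∃ c : ℤ, ∀ t, t ≠ 0 →
      Dt.avgK (Dt.θ Dt.j) (χ : G → ℂ) t = c :=
    fun χ hχ => Dt.avg_out (Finset.mem_sdiff.1 hχ).2
  choose! c hc using hout
  have hsplit : ∀ f : IrrCharacter G → ℂ,
      2 * ∑ χ, f χ = ∑ u ∈ (Finset.univ : Finset (ZMod p)).erase 0, f (Dt.conjIrr u) +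
        2 * ∑ χ ∈ S, f χ := by
    intro f
    rw [← Dt.two_sum_fam f, ← mul_add, add_comm, hS, Finset.sum_sdiff (Finset.subset_univ _)]
  have hfam : ∀ u ∈ (Finset.univ : Finset (ZMod p)).erase 0,
      Dt.avgK (Dt.θ Dt.j) (Dt.conjIrr u : G → ℂ) 1 =
        -(psi p (u * Dt.i) + psi p (-(u * Dt.i))) := fun u hu => by
    rw [Dt.avg_fam_lam (Finset.mem_erase.1 hu).1 h1p, mul_one]
  have hbud : ∑ χ ∈ S, c χ * c χ = 2 := by
    have h := hsplit fun χ => Dt.avgK (Dt.θ Dt.j) (χ : G → ℂ) 1 *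
      conj (Dt.avgK (Dt.θ Dt.j) (χ : G → ℂ) 1)
    have h2 : ∀ u : ZMod p, -(psi p (u * Dt.i) + psi p (-(u * Dt.i))) *
        conj (-(psi p (u * Dt.i) + psi p (-(u * Dt.i)))) =
        2 + (psi p (u * (2 * Dt.i)) + psi p (-(u * (2 * Dt.i)))) := by
      intro u
      rw [show u * (2 * Dt.i) = u * Dt.i + u * Dt.i by ring, neg_add (u * Dt.i) (u * Dt.i)]
      simp only [map_neg, map_add, conj_psi, neg_neg, AddChar.map_add_eq_mul]
      have h1 : psi p (u * Dt.i) * psi p (-(u * Dt.i)) = 1 := by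
        rw [← AddChar.map_add_eq_mul, add_neg_cancel, AddChar.map_zero_eq_one]
      linear_combination 2 * h1
    rw [Dt.avg_orth _ _ h1p, Dt.dot_self Dt.lin_j, mul_one,
      Finset.sum_congr rfl (g := fun u => 2 + (psi p (u * (2 * Dt.i)) + psi p (-(u * (2 * Dt.i)))))
        (fun u hu => by rw [hfam u hu]; exact h2 u),
      Finset.sum_add_distrib, Dt.psi_two_sum (mul_ne_zero Dt.two_ne Dt.i_ne), Finset.sum_const,
      Finset.card_erase_of_mem (Finset.mem_univ _), Finset.card_univ, ZMod.card, nsmul_eq_mul,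
      Nat.cast_sub hp.one_le,
      Finset.sum_congr rfl (g := fun χ => ((c χ : ℂ) * (c χ : ℂ))) (fun χ hχ => by
        rw [hc χ hχ 1 h1p, map_intCast])] at h
    have h3 : ((∑ χ ∈ S, c χ * c χ : ℤ) : ℂ) = ((2 : ℤ) : ℂ) := by
      push_cast at h ⊢
      linear_combination (-(1 : ℂ) / 2) * h
    exact_mod_cast h3
  have hsmall : ∀ χ ∈ S, c χ = 0 ∨ c χ * c χ = 1 := by
    intro χ hχ
    have h1 := Finset.single_le_sum (fun (x : IrrCharacter G) _ => mul_self_nonneg (c x)) hχ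
    rw [hbud] at h1
    have h2 : -1 ≤ c χ ∧ c χ ≤ 1 := by constructor <;> nlinarith
    rcases (by omega : c χ = -1 ∨ c χ = 0 ∨ c χ = 1) with h | h | h <;> simp [h]
  set T := S.filter fun χ => c χ ≠ 0 with hT
  have hTc : T.card = 2 := by
    have h : ∑ χ ∈ S, c χ * c χ = ∑ χ ∈ T, (1 : ℤ) := by
      rw [hT, Finset.sum_filter]
      refine Finset.sum_congr rfl fun χ hχ => ?_
      rcases hsmall χ hχ with h | h
      · simp [h]
      · rw [if_pos (fun h0 => by rw [h0] at h; simp at h), h]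
    rw [hbud, Finset.sum_const, nsmul_eq_mul, mul_one] at h
    exact_mod_cast h.symm
  obtain ⟨χ₁, χ₂, hne, hTeq⟩ := Finset.card_eq_two.1 hTc
  have hmem : ∀ χ, χ = χ₁ ∨ χ = χ₂ → χ ∈ S ∧ c χ * c χ = 1 := by
    intro χ hχ
    have h : χ ∈ T := by rw [hTeq]; simpa using hχ
    rw [hT, Finset.mem_filter] at h
    exact ⟨h.1, (hsmall χ h.1).resolve_left h.2⟩
  have hdeg : ∀ χ, χ = χ₁ ∨ χ = χ₂ →
      ∃ m : ℕ, (χ : G → ℂ) 1 + ((p : ℂ) - 1) * (c χ : ℂ) = (p : ℂ) * m := by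
    intro χ hχ
    obtain ⟨hS', hc1⟩ := hmem χ hχ
    have hne0 : Dt.avgK (Dt.θ Dt.j) (χ : G → ℂ) 1 ≠ 0 := by
      rw [hc χ hS' 1 h1p, Int.cast_ne_zero]
      intro h0; rw [h0] at hc1; simp at hc1
    have h0 : Dt.avgK (Dt.θ Dt.j) (χ : G → ℂ) 0 = (χ : G → ℂ) 1 := by
      rw [Dt.avg_of_central hKZ Dt.lin_j 0 (fun g k hk =>
        Dt.central_char hKZ Dt.lin_j χ hne0 g hk), Dt.pw_zero]
    obtain ⟨m, hm⟩ := Dt.mult_nat Dt.lin_j (Dt.isCharacter_irr χ) (0 : ZMod p)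
    refine ⟨m, ?_⟩
    rw [← hm, mult, mul_inv_cancel_left₀ Dt.p_ne]
    simp only [zero_mul, neg_zero, AddChar.map_zero_eq_one, mul_one]
    rw [Dt.sum_t _ _ (hc χ hS'), h0]
  have hrel : ∀ g, ¬ p ∣ orderOf g → (ζ : G → ℂ) g + ((χ₁ : G → ℂ) g * (c χ₁ : ℂ) +
      (χ₂ : G → ℂ) g * (c χ₂ : ℂ)) = 0 := by
    intro g hg
    have h := hsplit fun χ => (χ : G → ℂ) g * conj (Dt.avgK (Dt.θ Dt.j) (χ : G → ℂ) 1)
    rw [Dt.avg_regular _ h1p hg,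
      Finset.sum_congr rfl (g := fun u => -(ζ : G → ℂ) g * (psi p (u * Dt.i) + psi p (-(u * Dt.i))))
        (fun u hu => by
          rw [hfam u hu, Dt.conjIrr_reg u hg]
          simp only [map_neg, map_add, conj_psi, neg_neg]
          ring),
      ← Finset.mul_sum, Dt.psi_two_sum Dt.i_ne,
      ← Finset.sum_subset (Finset.filter_subset (fun χ => c χ ≠ 0) S) (fun χ hχ hχ' => by
        rw [Finset.mem_filter, not_and, not_not] at hχ'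
        rw [hc χ hχ 1 h1p, hχ' hχ, Int.cast_zero, map_zero, mul_zero]),
      ← hT, hTeq, Finset.sum_pair hne, hc χ₁ (hmem χ₁ (Or.inl rfl)).1 1 h1p,
      hc χ₂ (hmem χ₂ (Or.inr rfl)).1 1 h1p, map_intCast, map_intCast] at h
    linear_combination (-(1 : ℂ) / 2) * h
  obtain ⟨d₁, hd₁0, hd₁⟩ := Dt.one_irr χ₁
  obtain ⟨d₂, hd₂0, hd₂⟩ := Dt.one_irr χ₂
  have hreg1 : ¬ p ∣ orderOf (1 : G) := by rw [orderOf_one]; exact hp.not_dvd_one
  have hsum := hrel 1 hreg1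
  rw [Dt.deg, hd₁, hd₂] at hsum
  have hsumZ : (p : ℤ) - 2 + ((d₁ : ℤ) * c χ₁ + (d₂ : ℤ) * c χ₂) = 0 := by exact_mod_cast hsum
  have hlow : ∀ χ, χ = χ₁ ∨ χ = χ₂ → c χ = -1 → ∀ d : ℕ, 0 < d → (χ : G → ℂ) 1 = d → p ≤ d + 1 := by
    intro χ hχ hc1 d hd0 hd
    obtain ⟨m, hm⟩ := hdeg χ hχ
    rw [hc1, hd] at hm
    have h : ((d : ℤ) + 1) = (p : ℤ) * ((m : ℤ) + 1) := by
      have h' : (((d : ℤ) + 1 : ℤ) : ℂ) = (((p : ℤ) * ((m : ℤ) + 1) : ℤ) : ℂ) := by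
        push_cast at hm ⊢
        linear_combination hm
      exact_mod_cast h'
    have h2 : (p : ℤ) ≤ (d : ℤ) + 1 := by rw [h]; exact le_mul_of_one_le_right (by positivity) (by omega)
    omega
  have hcase : (c χ₁ = -1 ∧ c χ₂ = 1) ∨ (c χ₁ = 1 ∧ c χ₂ = -1) := by
    have h7 := Dt.seven_le
    rcases mul_self_eq_one_iff.1 (hmem χ₁ (Or.inl rfl)).2 with h1 | h1 <;>
      rcases mul_self_eq_one_iff.1 (hmem χ₂ (Or.inr rfl)).2 with h2 | h2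
    · rw [h1, h2] at hsumZ; omega
    · exact Or.inr ⟨h1, h2⟩
    · exact Or.inl ⟨h1, h2⟩
    · have := hlow χ₁ (Or.inl rfl) h1 d₁ hd₁0 hd₁
      have := hlow χ₂ (Or.inr rfl) h2 d₂ hd₂0 hd₂
      rw [h1, h2] at hsumZ; omega
  obtain ⟨ρ₁, ρ₂, h₁, h₂, hne', hc₁, hc₂, hT'⟩ : ∃ ρ₁ ρ₂, (ρ₁ = χ₁ ∨ ρ₁ = χ₂) ∧
      (ρ₂ = χ₁ ∨ ρ₂ = χ₂) ∧ ρ₁ ≠ ρ₂ ∧ c ρ₁ = -1 ∧ c ρ₂ = 1 ∧
      ∀ g, ¬ p ∣ orderOf g → (ρ₁ : G → ℂ) g = (ρ₂ : G → ℂ) g + (ζ : G → ℂ) g := by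
    rcases hcase with ⟨a, b⟩ | ⟨a, b⟩
    · refine ⟨χ₁, χ₂, Or.inl rfl, Or.inr rfl, hne, a, b, fun g hg => ?_⟩
      have h := hrel g hg
      rw [a, b] at h
      push_cast at h
      linear_combination -h
    · refine ⟨χ₂, χ₁, Or.inr rfl, Or.inl rfl, hne.symm, b, a, fun g hg => ?_⟩
      have h := hrel g hg
      rw [a, b] at h
      push_cast at h
      linear_combination -h
  obtain ⟨hS₁, -⟩ := hmem ρ₁ h₁
  obtain ⟨hS₂, -⟩ := hmem ρ₂ h₂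
  obtain ⟨m, hm⟩ := hdeg ρ₂ h₂
  obtain ⟨d, hd0, hd⟩ := Dt.one_irr ρ₂
  rw [hc₂, Int.cast_one, mul_one, hd] at hm
  have hm' : d + (p - 1) = p * m := by
    have h : ((d + (p - 1) : ℕ) : ℂ) = ((p * m : ℕ) : ℂ) := by
      push_cast [Nat.cast_sub hp.one_le]
      exact hm
    exact_mod_cast h
  obtain ⟨w, rfl⟩ : ∃ w, m = w + 1 := ⟨m - 1, by
    rcases Nat.eq_zero_or_pos m with rfl | h
    · rw [mul_zero] at hm'; omega
    · omega⟩
  push_cast at hm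
  refine ⟨ρ₁, ρ₂, w, hne', (Finset.mem_sdiff.1 hS₁).2, (Finset.mem_sdiff.1 hS₂).2,
    fun t ht => by rw [hc ρ₁ hS₁ t ht, hc₁]; norm_num,
    fun t ht => by rw [hc ρ₂ hS₂ t ht, hc₂]; norm_num, fun χ hχ hx1 hx2 => ?_,
    by rw [hd]; linear_combination hm, ?_, hT'⟩
  · have hχS : χ ∈ S := Finset.mem_sdiff.2 ⟨Finset.mem_univ _, hχ⟩
    have : c χ = 0 := by
      by_contra h0
      have h : χ ∈ T := Finset.mem_filter.2 ⟨hχS, h0⟩
      rw [hTeq, Finset.mem_insert, Finset.mem_singleton] at h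
      rcases h₁ with a | a <;> rcases h₂ with b | b <;> rcases h with e | e <;>
        first
          | exact hne' (a.trans b.symm)
          | exact hx1 (e.trans a.symm)
          | exact hx2 (e.trans b.symm)
    rw [hc χ hχS 1 h1p, this, Int.cast_zero]
  · rw [hT' 1 hreg1, hd, Dt.deg]
    linear_combination hm

end Datum

end Cfsg.Agent.Fg24.SmallDeg
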