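import Cfsg.Agent.Fg24.SmallDeg.Family

/-!
# Faithful characters of degree `p - 2`: the complement is the centre
-/

set_option autoImplicit false
set_option linter.unusedSectionVars false

open Cfsg
open scoped ComplexConjugate Classical

namespace Cfsg.Agent.Fg24.SmallDeg

open Cfsg.Agent.BlockThms.OrderP

universe u

variable {G : Type u} [Group G] [Fintype G] {p : ℕ} [Fact p.Prime] {P : Sylow p G}
  {ζ : IrrCharacter G} (Dt : Datum P ζ)

namespace Datum

include Dt

theorem dot_conj (θ θ' : G → ℂ) : conj (Dt.dot θ θ') = Dt.dot θ' θ := by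
  simp only [dot, map_mul, map_sum, map_inv₀, map_natCast, Complex.conj_conj, mul_comm (conj _)]

set_option maxHeartbeats 1000000 in
/-- The trivial line and the nontrivial lines carry the same character. -/
theorem θ_zero_eq {k : G} (hk : k ∈ Dt.K) : Dt.θ 0 k = Dt.θ Dt.j k := by
  by_contra hne
  have hD : Dt.dot (Dt.θ 0) (Dt.θ Dt.j) = 0 :=
    Dt.dot_ne Dt.lin_zero Dt.lin_j fun h => hne (h k hk)
  have hD' : Dt.dot (Dt.θ Dt.j) (Dt.θ 0) = 0 := by
    rw [← Dt.dot_conj, hD, map_zero]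
  have h1p : (1 : ZMod p) ≠ 0 := one_ne_zero
  set F₁ : IrrCharacter G → ℂ := fun χ => Dt.avgK (Dt.θ Dt.j) (χ : G → ℂ) 1 with hF₁
  set F₀ : IrrCharacter G → ℂ := fun χ => Dt.avgK (Dt.θ 0) (χ : G → ℂ) 1 with hF₀
  set w : ZMod p → ℂ := fun u => 1 + (psi p (u * Dt.i) + psi p (-(u * Dt.i))) with hw
  have hf1 : ∀ u, u ≠ 0 → F₁ (Dt.conjIrr u) = -w u := by
    intro u hu
    simp only [hF₁, Dt.avg_fam hu h1p, hD, Dt.dot_self Dt.lin_j, hw, mul_one]
    ring
  have hf0 : ∀ u, u ≠ 0 → F₀ (Dt.conjIrr u) = 1 := by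
    intro u hu
    simp only [hF₀, Dt.avg_fam hu h1p, hD', Dt.dot_self Dt.lin_zero, zero_mul, add_zero]
  have hwconj : ∀ u, conj (w u) = w u := by
    intro u
    simp only [hw, map_add, map_one, conj_psi, neg_neg]
    ring
  have h2i : (2 : ZMod p) * Dt.i ≠ 0 := mul_ne_zero Dt.two_ne Dt.i_ne
  have hcard : (((Finset.univ : Finset (ZMod p)).erase 0).card : ℂ) = (p : ℂ) - 1 := by
    rw [Finset.card_erase_of_mem (Finset.mem_univ _), Finset.card_univ, ZMod.card,
      Nat.cast_sub (Fact.out : p.Prime).one_le, Nat.cast_one]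
  have hw1 : ∑ u ∈ (Finset.univ : Finset (ZMod p)).erase 0, w u = (p : ℂ) - 3 := by
    simp only [hw, Finset.sum_add_distrib (g := fun u => psi p (u * Dt.i) + psi p (-(u * Dt.i))),
      Finset.sum_const, nsmul_eq_mul, mul_one, hcard, Dt.psi_two_sum Dt.i_ne]
    ring
  have hw2 : ∑ u ∈ (Finset.univ : Finset (ZMod p)).erase 0, w u * conj (w u) = 3 * (p : ℂ) - 9 := by
    have h : ∀ u, w u * conj (w u) = 3 + 2 * (psi p (u * Dt.i) + psi p (-(u * Dt.i))) +
        (psi p (u * (2 * Dt.i)) + psi p (-(u * (2 * Dt.i)))) := by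
      intro u
      rw [hwconj, show u * (2 * Dt.i) = u * Dt.i + u * Dt.i by ring, neg_add]
      simp only [hw, AddChar.map_add_eq_mul]
      have h1 : psi p (u * Dt.i) * psi p (-(u * Dt.i)) = 1 := by
        rw [← AddChar.map_add_eq_mul, add_neg_cancel, AddChar.map_zero_eq_one]
      linear_combination 2 * h1
    rw [Finset.sum_congr rfl fun u _ => h u, Finset.sum_add_distrib, Finset.sum_add_distrib,
      ← Finset.mul_sum, Dt.psi_two_sum h2i, Dt.psi_two_sum Dt.i_ne, Finset.sum_const, nsmul_eq_mul,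
      hcard]
    ring
  -- the four sums
  set S : Finset (IrrCharacter G) := Finset.univ \ Dt.fam with hS
  have hsplit : ∀ f : IrrCharacter G → ℂ,
      2 * ∑ χ, f χ = ∑ u ∈ (Finset.univ : Finset (ZMod p)).erase 0, f (Dt.conjIrr u) +
        2 * ∑ χ ∈ S, f χ := by
    intro f
    rw [← Dt.two_sum_fam f, ← mul_add, add_comm, hS, Finset.sum_sdiff (Finset.subset_univ _)]
  have hreg1 : ¬ p ∣ orderOf (1 : G) := by
    rw [orderOf_one]; exact (Fact.out : p.Prime).not_dvd_one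
  have hc : ∀ χ ∈ S, ∃ c : ℤ, F₁ χ = c := fun χ hχ =>
    (Dt.avg_out (Finset.mem_sdiff.1 hχ).2).imp fun c h => h 1 h1p
  choose! c hc using hc
  have hbud : 2 * ∑ χ ∈ S, ((c χ : ℂ) * (c χ : ℂ)) = 9 - (p : ℂ) := by
    have h := hsplit fun χ => F₁ χ * conj (F₁ χ)
    rw [Dt.avg_orth (Dt.θ Dt.j) (Dt.θ Dt.j) h1p, Dt.dot_self Dt.lin_j, mul_one,
      Finset.sum_congr rfl (g := fun u => w u * conj (w u)) (fun u hu => by
        rw [hf1 u (Finset.mem_erase.1 hu).1, map_neg, neg_mul_neg]), hw2,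
      Finset.sum_congr rfl (g := fun χ => ((c χ : ℂ) * (c χ : ℂ))) (fun χ hχ => by
        rw [hc χ hχ, map_intCast])] at h
    linear_combination -h
  have hbudZ : 2 * ∑ χ ∈ S, c χ * c χ = 9 - (p : ℤ) := by exact_mod_cast hbud
  have hp7 : p = 7 := by
    have h0 : 0 ≤ ∑ χ ∈ S, c χ * c χ := Finset.sum_nonneg fun χ _ => mul_self_nonneg _
    have h9 : p ≤ 9 := by omega
    have := Dt.seven_le
    have hp : p.Prime := Fact.out
    rcases (by omega : p = 7 ∨ p = 8 ∨ p = 9) with h | h | h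
    · exact h
    · rw [h] at hp; exact absurd hp (by norm_num)
    · rw [h] at hp; exact absurd hp (by norm_num)
  have hsum1 : ∑ χ ∈ S, c χ * c χ = 1 := by rw [hp7] at hbudZ; omega
  obtain ⟨χs, hχs, hcs⟩ : ∃ χ ∈ S, c χ * c χ ≠ 0 :=
    Finset.exists_ne_zero_of_sum_ne_zero (by rw [hsum1]; exact one_ne_zero)
  have hrest : ∀ χ ∈ S, χ ≠ χs → F₁ χ = 0 := by
    intro χ hχ hne'
    have h1 := Finset.sum_le_sum_of_subset_of_nonneg
      (Finset.insert_subset hχ (Finset.singleton_subset_iff.2 hχs))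
      (fun (x : IrrCharacter G) _ _ => mul_self_nonneg (c x))
    rw [Finset.sum_pair hne', hsum1] at h1
    have h2 := mul_self_nonneg (c χ)
    have h3 := mul_self_nonneg (c χs)
    have h4 : c χ * c χ = 0 := by omega
    rw [hc χ hχ, mul_self_eq_zero.1 h4, Int.cast_zero]
  have hcc : c χs * c χs = 1 := by
    have h1 := Finset.single_le_sum (fun (x : IrrCharacter G) _ => mul_self_nonneg (c x)) hχs
    rw [hsum1] at h1
    have := mul_self_nonneg (c χs)
    omega
  -- the value at one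
  obtain ⟨d, hd⟩ : ∃ d : ℕ, (χs : G → ℂ) 1 = d :=
    ⟨_, (Blocks.charDegree_cast (Char.IsIrr.isCharacter χs.2)).symm⟩
  have hcd : c χs * (d : ℤ) = 10 := by
    have h := hsplit fun χ => (χ : G → ℂ) 1 * conj (F₁ χ)
    rw [Dt.avg_regular _ h1p hreg1,
      Finset.sum_congr rfl (g := fun u => -((p : ℂ) - 2) * w u) (fun u hu => by
        rw [hf1 u (Finset.mem_erase.1 hu).1, Dt.conjIrr_one, map_neg, hwconj]; ring),
      ← Finset.mul_sum, hw1, Finset.sum_eq_single χs (fun χ hχ hne' => by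
        rw [hrest χ hχ hne', map_zero, mul_zero]) (fun h' => absurd hχs h'), hc χs hχs, hd,
      map_intCast] at h
    have h2 : ((c χs * (d : ℤ) : ℤ) : ℂ) = ((10 : ℤ) : ℂ) := by
      rw [hp7] at h
      push_cast at h ⊢
      linear_combination (-(1 : ℂ) / 2) * h
    exact_mod_cast h2
  have hc1 : c χs = 1 := by
    rcases mul_self_eq_one_iff.1 hcc with h | h
    · exact h
    · rw [h] at hcd; omega
  have hd10 : d = 10 := by rw [hc1] at hcd; omega
  -- against the trivial line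
  have hH : F₀ χs = 2 := by
    have h := hsplit fun χ => F₁ χ * conj (F₀ χ)
    rw [Dt.avg_orth _ _ h1p, hD, mul_zero,
      Finset.sum_congr rfl (g := fun u => -w u) (fun u hu => by
        rw [hf1 u (Finset.mem_erase.1 hu).1, hf0 u (Finset.mem_erase.1 hu).1, map_one, mul_one]),
      Finset.sum_neg_distrib, hw1, Finset.sum_eq_single χs (fun χ hχ hne' => by
        rw [hrest χ hχ hne', zero_mul]) (fun h' => absurd hχs h'), hc χs hχs, hc1, Int.cast_one,
      one_mul, hp7] at h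
    have h2 : conj (F₀ χs) = 2 := by push_cast at h; linear_combination (-(1 : ℂ) / 2) * h
    rw [← Complex.conj_conj (F₀ χs), h2, map_ofNat]
  have hH0 : ∀ χ ∈ S, χ ≠ χs → F₀ χ = 0 := by
    have h := hsplit fun χ => F₀ χ * conj (F₀ χ)
    rw [Dt.avg_orth _ _ h1p, Dt.dot_self Dt.lin_zero, mul_one,
      Finset.sum_congr rfl (g := fun _ => (1 : ℂ)) (fun u hu => by
        rw [hf0 u (Finset.mem_erase.1 hu).1, map_one, mul_one]),
      Finset.sum_const, nsmul_eq_mul, mul_one, hcard, ← Finset.sum_erase_add _ _ hχs, hH,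
      map_ofNat, hp7] at h
    have h2 : ((∑ χ ∈ S.erase χs, Complex.normSq (F₀ χ) : ℝ) : ℂ) = 0 := by
      push_cast at h
      push_cast
      simp only [← Complex.mul_conj]
      linear_combination (-(1 : ℂ) / 2) * h
    intro χ hχ hne'
    exact Complex.normSq_eq_zero.1 ((Finset.sum_eq_zero_iff_of_nonneg fun χ _ =>
      Complex.normSq_nonneg _).1 (by exact_mod_cast h2) χ (Finset.mem_erase.2 ⟨hne', hχ⟩))
  have h := hsplit fun χ => (χ : G → ℂ) 1 * conj (F₀ χ)
  rw [Dt.avg_regular _ h1p hreg1,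
    Finset.sum_congr rfl (g := fun _ => (p : ℂ) - 2) (fun u hu => by
      rw [hf0 u (Finset.mem_erase.1 hu).1, Dt.conjIrr_one, map_one, mul_one]),
    Finset.sum_const, nsmul_eq_mul, hcard, Finset.sum_eq_single χs (fun χ hχ hne' => by
      rw [hH0 χ hχ hne', map_zero, mul_zero]) (fun h' => absurd hχs h'), hH, hd, hd10, map_ofNat,
    hp7] at h
  norm_num at h

theorem θ_K (r : ZMod p) (h1 : r ≠ Dt.i) (h2 : r ≠ -Dt.i) {k : G} (hk : k ∈ Dt.K) :
    Dt.θ r k = Dt.θ Dt.j k := by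
  by_cases h0 : r = 0
  · rw [h0, Dt.θ_zero_eq hk]
  · exact Dt.θ_generic ⟨h0, h1, h2⟩ hk

theorem val_one_line {t : ZMod p} {k : G} (hk : k ∈ Dt.K) :
    (ζ : G → ℂ) (pw Dt.x t * k) = Dt.θ Dt.j k *
      ((if t = 0 then (p : ℂ) else 0) - psi p (Dt.i * t) - psi p (-(Dt.i * t))) := by
  rw [Dt.val t k (Dt.K_le hk)]
  have hsum : ∑ s : ZMod p, psi p (s * t) = if t = 0 then (p : ℂ) else 0 := by
    simp only [mul_comm _ t]; exact sum_psi t
  have h : ∀ s, Dt.θ s k = Dt.θ Dt.j k - (if s = Dt.i then Dt.θ Dt.j k else 0) -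
      (if s = -Dt.i then Dt.θ Dt.j k else 0) := by
    intro s
    by_cases h1 : s = Dt.i
    · rw [h1, Dt.θ_i, if_pos rfl, if_neg (Dt.ne_neg Dt.i_ne)]; ring
    by_cases h2 : s = -Dt.i
    · rw [h2, Dt.θ_neg_i, if_neg (Dt.ne_neg Dt.i_ne).symm, if_pos rfl]; ring
    rw [Dt.θ_K s h1 h2 hk, if_neg h1, if_neg h2]
    ring
  rw [Finset.sum_congr rfl fun s _ => congrArg (· * psi p (s * t)) (h s)]
  simp only [sub_mul, ite_mul, zero_mul, Finset.sum_sub_distrib, ← Finset.mul_sum,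
    Finset.sum_ite_eq', Finset.mem_univ, if_true]
  rw [hsum, neg_mul]
  ring

/-- The complement is the centre. -/
theorem K_eq_center (hnn : ¬ (P : Subgroup G).Normal)
    (hfaith : ∀ g : G, (ζ : G → ℂ) g = (ζ : G → ℂ) 1 → g = 1) :
    Dt.K = Subgroup.center G := by
  obtain ⟨d, ρ, hρirr, hρ⟩ := ζ.2
  have hdeg : ((Module.finrank ℂ (Fin d → ℂ) : ℕ) : ℂ) = (p : ℂ) - 2 := by
    rw [← Dt.deg, ← hρ, ρ.char_one]
  have hKZ : Dt.K ≤ Subgroup.center G := by
    intro k hk
    have hval : (ζ : G → ℂ) k = Dt.θ Dt.j k * ((p : ℂ) - 2) := by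
      have h := Dt.val_one_line (t := 0) hk
      rw [Dt.pw_zero, one_mul, if_pos rfl, mul_zero, neg_zero, AddChar.map_zero_eq_one] at h
      rw [h]; ring
    obtain ⟨ω, hω, -⟩ := Char.scalar_of_norm_character_eq ρ k (by
      rw [hρ, hval, norm_mul, Dt.θ_norm Dt.j_spec.2.1 Dt.j_spec.2.2 (Dt.K_le hk), one_mul, ← hdeg,
        Complex.norm_natCast])
    refine Subgroup.mem_center_iff.2 fun g => ?_
    have h : g * k * (k * g)⁻¹ = 1 := hfaith _ (by
      rw [← hρ]
      show LinearMap.trace ℂ _ (ρ (g * k * (k * g)⁻¹)) = LinearMap.trace ℂ _ (ρ 1)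
      have h2 : ρ (g * k) = ρ (k * g) := by
        rw [map_mul, map_mul, hω, smul_mul_assoc, mul_smul_comm]
        exact congrArg (ω • ·) ((mul_one (ρ g)).trans (one_mul (ρ g)).symm)
      rw [map_mul, h2, ← map_mul, mul_inv_cancel])
    exact mul_inv_eq_one.1 h
  refine le_antisymm hKZ ?_
  · intro z hz
    obtain ⟨a, ha, b, hb, rfl⟩ := Dt.C_dec (Subgroup.center_le_centralizer _ hz)
    suffices a = 1 by rw [this, mul_one]; exact hb
    by_contra hane
    refine hnn ⟨fun w hw g => ?_⟩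
    have haZ : a ∈ Subgroup.center G := by
      have h := mul_mem (inv_mem (hKZ hb)) hz
      rwa [inv_mul_cancel_left] at h
    have hwz : w ∈ Subgroup.zpowers a := by rw [Dt.setup.zpowers_eq ha hane]; exact hw
    have hwZ : w ∈ Subgroup.center G := Subgroup.zpowers_le.2 haZ hwz
    rw [Subgroup.mem_center_iff.1 hwZ g, mul_inv_cancel_right]
    exact hw

end Datum

end Cfsg.Agent.Fg24.SmallDeg
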