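import Cfsg.Agent.Fg24.SmallDeg.Central
import Cfsg.Agent.Char.Zero
import Cfsg.Agent.CharArith.Basic
import Cfsg.Agent.BlockThms.AbelianTI.SmallDegree

/-!
# Faithful characters of degree `p - 2`: central characters and values at an inverting element
-/

set_option autoImplicit false
set_option linter.unusedSectionVars false

open Cfsg
open scoped ComplexConjugate Classical

namespace Cfsg.Agent.Fg24.SmallDeg

open Cfsg.Agent.BlockThms.OrderP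

universe u

variable {G : Type u} [Group G] [Fintype G] {p : ℕ} [Fact p.Prime] {P : Sylow p G}
  {ζ : IrrCharacter G} (Dt : Datum P ζ)

namespace Datum

include Dt

theorem lin_one : Dt.Lin (fun _ => (1 : ℂ)) where
  one := rfl
  mul _ _ _ _ := (one_mul _).symm
  norm _ _ := by simp
  inv _ _ := rfl

theorem avg_eq (φ : G → ℂ) {t : ZMod p} (ht : t ≠ 0) :
    avg p φ (pw Dt.x t) = Dt.avgK (fun _ => (1 : ℂ)) φ t := by
  have hp : p.Prime := Fact.out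
  have hf : ((fiber p (pw Dt.x t)).card : ℂ) = (Nat.card Dt.K : ℂ) := by
    have h := Dt.setup.card_fiber (Dt.pw_mem t) (Dt.pw_ne ht)
    rw [Dt.setup.centralizer_eq (Dt.pw_mem t) (Dt.pw_ne ht), Dt.card_C, mul_comm p] at h
    rw [Nat.eq_of_mul_eq_mul_right hp.pos h]
  rw [avg, hf, avgK]
  congr 1
  simp only [map_one, mul_one]
  symm
  refine Finset.sum_bij (fun k _ => pw Dt.x t * (k : G)) (fun k _ => ?_) (fun k _ k' _ h => ?_)
    (fun g hg => ?_) fun k _ => rfl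
  · exact mem_fiber.2 (Dt.parts ht k.2).1
  · exact Subtype.ext (mul_left_cancel h)
  · have hg' := mem_fiber.1 hg
    refine ⟨⟨Blocks.pPrimePartOf p g,
      Dt.mem_K.2 ⟨?_, Blocks.not_dvd_orderOf_pPrimePartOf hp g⟩⟩, Finset.mem_univ _, ?_⟩
    · rw [← Dt.setup.centralizer_eq (Dt.pw_mem t) (Dt.pw_ne ht),
        Subgroup.mem_centralizer_singleton_iff]
      have h := (Blocks.commute_pPartOf_pPrimePartOf (p := p) g).eq
      rw [hg'] at h
      exact h.symm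
    · show pw Dt.x t * Blocks.pPrimePartOf p g = g
      rw [← hg']
      exact Blocks.pPartOf_mul_pPrimePartOf hp g

variable (hKZ : Dt.K = Subgroup.center G)
include hKZ

theorem K_comm {k : G} (hk : k ∈ Dt.K) (g : G) : g * k = k * g :=
  Subgroup.mem_center_iff.1 (hKZ ▸ hk) g

theorem mul_K (χ : IrrCharacter G) {k : G} (hk : k ∈ Dt.K) (g : G) :
    (χ : G → ℂ) 1 * (χ : G → ℂ) (g * k) = (χ : G → ℂ) k * (χ : G → ℂ) g := by
  rw [Dt.K_comm hKZ hk g]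
  exact BlockThms.AbelianTI.apply_mul_central χ.2
    (fun a => by rw [Dt.K_comm hKZ hk a, mul_inv_cancel_right]) g

/-- The central character is read off from a nonzero averaged value. -/
theorem central_char {θ : G → ℂ} (hθ : Dt.Lin θ) (χ : IrrCharacter G) {t : ZMod p}
    (h : Dt.avgK θ (χ : G → ℂ) t ≠ 0) (g : G) {k : G} (hk : k ∈ Dt.K) :
    (χ : G → ℂ) (g * k) = (χ : G → ℂ) g * θ k := by
  have hd := Char.IsIrr.one_ne_zero χ.2
  set S := ∑ l : Dt.K, (χ : G → ℂ) (pw Dt.x t * l) * conj (θ l) with hS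
  have hS0 : S ≠ 0 := fun e => h (by rw [avgK, ← hS, e, mul_zero])
  have h1 : ((χ : G → ℂ) k * conj (θ k)) * S = (χ : G → ℂ) 1 * S := by
    rw [hS, Finset.mul_sum, Finset.mul_sum]
    refine Fintype.sum_equiv (Equiv.mulRight (⟨k, hk⟩ : Dt.K)) _ _ fun l => ?_
    simp only [Equiv.coe_mulRight, Subgroup.coe_mul, hθ.mul _ l.2 k hk, map_mul]
    rw [← mul_assoc (pw Dt.x t)]
    linear_combination -(conj (θ l) * conj (θ k)) * Dt.mul_K hKZ χ hk (pw Dt.x t * l)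
  have h2 : θ k * conj (θ k) = 1 := by rw [Complex.mul_conj, hθ.norm k hk, Complex.ofReal_one]
  have h3 : (χ : G → ℂ) k = (χ : G → ℂ) 1 * θ k := by
    linear_combination θ k * mul_right_cancel₀ hS0 h1 - (χ : G → ℂ) k * h2
  refine mul_left_cancel₀ hd ?_
  rw [Dt.mul_K hKZ χ hk g, h3]
  ring

/-- An averaged value against a character that is a multiple of `θ` on the complement. -/
theorem avg_of_central {θ : G → ℂ} (hθ : Dt.Lin θ) {χ : G → ℂ} (t : ZMod p)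
    (h : ∀ g, ∀ k ∈ Dt.K, χ (g * k) = χ g * θ k) : Dt.avgK θ χ t = χ (pw Dt.x t) := by
  rw [avgK, Finset.sum_congr rfl (g := fun _ => χ (pw Dt.x t)) (fun k _ => by
    rw [h _ _ k.2, mul_assoc, Complex.mul_conj, hθ.norm _ k.2, Complex.ofReal_one, mul_one]),
    Finset.sum_const, Finset.card_univ, nsmul_eq_mul, ← Nat.card_eq_fintype_card,
    inv_mul_cancel_left₀ Dt.card_K_ne]

theorem ζ_line {t : ZMod p} {k : G} (hk : k ∈ Dt.K) :
    (ζ : G → ℂ) (pw Dt.x t * k) = (ζ : G → ℂ) (pw Dt.x t) * Dt.θ Dt.j k := by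
  have h1 := Dt.val_one_line (t := t) (one_mem Dt.K)
  rw [mul_one, Dt.lin_j.one, one_mul] at h1
  rw [Dt.val_one_line hk, h1, mul_comm]

theorem ζ_central (g : G) {k : G} (hk : k ∈ Dt.K) :
    (ζ : G → ℂ) (g * k) = (ζ : G → ℂ) g * Dt.θ Dt.j k := by
  refine Dt.central_char hKZ Dt.lin_j ζ (t := 0) ?_ g hk
  rw [avgK, Finset.sum_congr rfl (g := fun _ => (ζ : G → ℂ) 1) (fun l _ => by
    rw [Dt.ζ_line hKZ l.2, Dt.pw_zero, mul_assoc, Complex.mul_conj, Dt.lin_j.norm _ l.2,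
      Complex.ofReal_one, mul_one]),
    Finset.sum_const, Finset.card_univ, nsmul_eq_mul, ← Nat.card_eq_fintype_card,
    inv_mul_cancel_left₀ Dt.card_K_ne]
  exact Char.IsIrr.one_ne_zero ζ.2

theorem lam_eq_one (hfaith : ∀ g : G, (ζ : G → ℂ) g = (ζ : G → ℂ) 1 → g = 1) {k : G}
    (hk : k ∈ Dt.K) (h : Dt.θ Dt.j k = 1) : k = 1 := hfaith k (by
  rw [← one_mul k, Dt.ζ_central hKZ 1 hk, h, mul_one])

omit hKZ

theorem a_inv' (t : ZMod p) : Dt.a * pw Dt.x t = pw Dt.x (-t) * Dt.a :=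
  mul_inv_eq_iff_eq_mul.1 (Dt.a_inv t)

/-- The elements of the coset `P a` are conjugate to `a`. -/
theorem coset_conj (t : ZMod p) :
    pw Dt.x (t * 2⁻¹) * Dt.a * (pw Dt.x (t * 2⁻¹))⁻¹ = pw Dt.x t * Dt.a := by
  rw [mul_inv_eq_iff_eq_mul, mul_assoc (pw Dt.x t), Dt.a_inv', ← mul_assoc, ← pw_add Dt.x_ord]
  congr 2
  have := Dt.two_ne
  field_simp
  ring

theorem coset_val {φ : G → ℂ} (hφ : IsClassFunction G φ) (t : ZMod p) :
    φ (pw Dt.x t * Dt.a) = φ Dt.a := by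
  rw [← Dt.coset_conj t, hφ]

theorem a_regular : ¬ p ∣ orderOf Dt.a := by
  intro h
  refine Dt.a_sq_reg ?_
  have hp : p.Prime := Fact.out
  have h2 : orderOf Dt.a ∣ 2 * orderOf (Dt.a * Dt.a) := by
    rw [orderOf_dvd_iff_pow_eq_one, pow_mul, pow_two, pow_orderOf_eq_one]
  exact (hp.dvd_mul.1 (h.trans h2)).resolve_left fun h2' => by
    have := Nat.le_of_dvd two_pos h2'
    have := Dt.seven_le
    omega

/-- The average over the cosets of `P`, on the normalizer. -/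
theorem exists_avgP {χ : G → ℂ} (hχ : IsCharacter G χ) :
    ∃ β : Subgroup.normalizer (P : Set G) → ℂ, IsCharacter _ β ∧
      ∀ g, β g = (p : ℂ)⁻¹ * ∑ t : ZMod p, χ (pw Dt.x t * (g : G)) := by
  set N := Subgroup.normalizer (P : Set G) with hN
  set Q := (P : Subgroup G).subgroupOf N with hQ
  have : Q.Normal := Subgroup.normal_in_normalizer
  have hQc : Nat.card Q = p := by
    rw [hQ, Nat.card_congr (Subgroup.subgroupOfEquivOfLe
      (show (P : Subgroup G) ≤ N from Subgroup.le_normalizer)).toEquiv, Dt.setup.card]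
  refine ⟨_, Char.isCharacter_avg Q (Char.isCharacter_res N hχ), fun g => ?_⟩
  show (Nat.card Q : ℂ)⁻¹ * ∑ n : Q, χ (((n : N) * g : N) : G) = _
  rw [hQc]
  congr 1
  symm
  refine Fintype.sum_bijective (fun t => (⟨⟨pw Dt.x t, Subgroup.le_normalizer (Dt.pw_mem t)⟩,
    Subgroup.mem_subgroupOf.2 (Dt.pw_mem t)⟩ : Q)) ⟨fun t t' h => pw_injective Dt.x_ord
      (congrArg (fun n : Q => ((n : N) : G)) h), fun n => by
      obtain ⟨t, ht⟩ := Dt.setup.exists_pw Dt.x_mem Dt.x_ord (Subgroup.mem_subgroupOf.1 n.2)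
      exact ⟨t, Subtype.ext (Subtype.ext ht)⟩⟩ _ _ fun t => rfl

/-- The value at `a` is bounded by the dimension of the fixed space of `P`. -/
theorem norm_le_fixed {χ : G → ℂ} (hχ : IsCharacter G χ) :
    ‖χ Dt.a‖ ≤ ((p : ℂ)⁻¹ * ∑ t : ZMod p, χ (pw Dt.x t)).re := by
  obtain ⟨β, hβ, hβv⟩ := Dt.exists_avgP hχ
  have h := Char.IsChar.norm_le hβ ⟨Dt.a, Dt.a_mem⟩
  rw [hβv, hβv] at h
  simp only [OneMemClass.coe_one, mul_one,
    Dt.coset_val (Char.isClassFunction_of_isCharacter hχ), Finset.sum_const, Finset.card_univ,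
    ZMod.card, nsmul_eq_mul, inv_mul_cancel_left₀ Dt.p_ne] at h
  exact h

theorem sum_psi_pm {a : ZMod p} (ha : a ≠ 0) :
    ∑ t : ZMod p, psi p (a * t) = 0 := by rw [sum_psi, if_neg ha]

include hKZ

/-- The value of `ζ` at `a` squared. -/
theorem ζ_a_sq : (ζ : G → ℂ) Dt.a * (ζ : G → ℂ) Dt.a = Dt.θ Dt.j (Dt.a * Dt.a) := by
  obtain ⟨β, hβ, hβv⟩ := Dt.exists_avgP (Char.IsIrr.isCharacter ζ.2)
  have hK : Dt.a * Dt.a ∈ Dt.K := Dt.mem_K.2 ⟨Dt.a_sq, Dt.a_sq_reg⟩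
  have hsum : ∀ k ∈ Dt.K, ∑ t : ZMod p, (ζ : G → ℂ) (pw Dt.x t * k) = (p : ℂ) * Dt.θ Dt.j k := by
    intro k hk
    simp only [Dt.val_one_line hk, ← Finset.mul_sum, Finset.sum_sub_distrib, Finset.sum_ite_eq',
      Finset.mem_univ, if_true, ← neg_mul, Dt.sum_psi_pm Dt.i_ne,
      Dt.sum_psi_pm (neg_ne_zero.2 Dt.i_ne)]
    ring
  have hb1 : β 1 = 1 := by
    rw [hβv, OneMemClass.coe_one, hsum 1 (one_mem _), Dt.lin_j.one, mul_one,
      inv_mul_cancel₀ Dt.p_ne]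
  obtain ⟨f, hf⟩ := Char.IsChar.exists_hom hβ hb1
  have hba : β ⟨Dt.a, Dt.a_mem⟩ = (ζ : G → ℂ) Dt.a := by
    rw [hβv]
    simp only [Dt.coset_val (Dt.isClassFunction_irr ζ), Finset.sum_const, Finset.card_univ,
      ZMod.card, nsmul_eq_mul, inv_mul_cancel_left₀ Dt.p_ne]
  have hb2 : β (⟨Dt.a, Dt.a_mem⟩ * ⟨Dt.a, Dt.a_mem⟩) = Dt.θ Dt.j (Dt.a * Dt.a) := by
    rw [hβv]
    show (p : ℂ)⁻¹ * ∑ t : ZMod p, (ζ : G → ℂ) (pw Dt.x t * (Dt.a * Dt.a)) = _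
    rw [hsum _ hK, inv_mul_cancel_left₀ Dt.p_ne]
  rw [← hba, ← hb2, hf]
  show ((f _ : ℂˣ) : ℂ) * ((f _ : ℂˣ) : ℂ) = _
  rw [← Units.val_mul, ← map_mul]

theorem norm_ζ_a : ‖(ζ : G → ℂ) Dt.a‖ = 1 := by
  have h := congrArg norm (Dt.ζ_a_sq hKZ)
  rw [norm_mul, Dt.θ_norm Dt.j_spec.2.1 Dt.j_spec.2.2 Dt.a_sq] at h
  nlinarith [norm_nonneg ((ζ : G → ℂ) Dt.a)]

/-- The class multiplication constants of the class of `a` on `z K`. -/
theorem mult_const_zero (hfaith : ∀ g : G, (ζ : G → ℂ) g = (ζ : G → ℂ) 1 → g = 1) {k : G}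
    (hk : k ∈ Dt.K) (hne : k ≠ Dt.a * Dt.a) :
    ∑ χ : IrrCharacter G, (χ : G → ℂ) Dt.a * (χ : G → ℂ) Dt.a *
      conj ((χ : G → ℂ) (pw Dt.x (1 : ZMod p) * k)) / (χ : G → ℂ) 1 = 0 := by
  have hG : (Nat.card G : ℂ) ≠ 0 := Char.card_ne_zero
  have hterm : ∀ χ : IrrCharacter G, (χ : G → ℂ) Dt.a * (χ : G → ℂ) Dt.a *
      conj ((χ : G → ℂ) (pw Dt.x (1 : ZMod p) * k)) / (χ : G → ℂ) 1 = (Nat.card G : ℂ)⁻¹ *
      ∑ b : G, (χ : G → ℂ) (b * Dt.a * b⁻¹ * Dt.a) * conj ((χ : G → ℂ) (pw Dt.x (1 : ZMod p) * k)) := by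
    intro χ
    have hd := Char.IsIrr.one_ne_zero χ.2
    have h := CharArith.classMult χ.2 Dt.a Dt.a
    rw [← Finset.sum_mul]
    field_simp
    linear_combination -(conj ((χ : G → ℂ) (pw Dt.x (1 : ZMod p) * k))) * h
  rw [Finset.sum_congr rfl fun χ _ => hterm χ, ← Finset.mul_sum, Finset.sum_comm,
    Finset.sum_eq_zero (fun b _ => ?_), mul_zero]
  rw [Char.second_orthogonality, if_neg]
  intro hc
  obtain ⟨c, hc⟩ := _root_.isConj_iff.1 hc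
  set u := c * (b * Dt.a * b⁻¹) * c⁻¹ with hu
  set v := c * Dt.a * c⁻¹ with hv
  have huv : u * v = pw Dt.x (1 : ZMod p) * k := by rw [hu, hv, conj_mul, hc]
  have hK : Dt.a * Dt.a ∈ Dt.K := Dt.mem_K.2 ⟨Dt.a_sq, Dt.a_sq_reg⟩
  have hcc : ∀ g : G, g * (Dt.a * Dt.a) * g⁻¹ = Dt.a * Dt.a := fun g => by
    rw [Dt.K_comm hKZ hK g, mul_inv_cancel_right]
  have hu2 : u * u = Dt.a * Dt.a := by rw [hu, conj_mul, conj_mul, hcc, hcc]
  have hv2 : v * v = Dt.a * Dt.a := by rw [hv, conj_mul, hcc]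
  set c0 := Dt.a * Dt.a with hc0
  have h1p : (1 : ZMod p) ≠ 0 := one_ne_zero
  -- `u` inverts `z`
  have hflip : u * (pw Dt.x (1 : ZMod p) * k) * u⁻¹ = pw Dt.x (-1 : ZMod p) * (k⁻¹ * (c0 * c0)) := by
    have e1 : u * (u * v) * u⁻¹ = c0 * (v * u⁻¹) := by rw [← hu2]; group
    have e2 : (u * v)⁻¹ * c0 = v * u⁻¹ := by
      rw [mul_inv_rev, mul_assoc, Dt.K_comm hKZ hK u⁻¹, ← hv2]
      group
    have e3 : pw Dt.x (-1 : ZMod p) = (pw Dt.x (1 : ZMod p))⁻¹ := by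
      refine eq_inv_of_mul_eq_one_left ?_
      rw [← pw_add Dt.x_ord, neg_add_cancel, Dt.pw_zero]
    rw [← huv, e1, ← e2, huv, mul_inv_rev, e3, ← Dt.K_comm hKZ (inv_mem hk) (pw Dt.x (1 : ZMod p))⁻¹,
      ← mul_assoc c0, ← mul_assoc c0, ← Dt.K_comm hKZ hK (pw Dt.x (1 : ZMod p))⁻¹,
      mul_assoc _ c0 k⁻¹, Dt.K_comm hKZ (inv_mem hk) c0]
    simp only [mul_assoc]
  have hk' : k⁻¹ * (c0 * c0) ∈ Dt.K := mul_mem (inv_mem hk) (mul_mem hK hK)
  have hz : u * pw Dt.x (1 : ZMod p) * u⁻¹ = pw Dt.x (-1 : ZMod p) := by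
    rw [← (Dt.parts h1p hk).1, ← Blocks.pPartOf_conj (p := p), hflip,
      (Dt.parts (neg_ne_zero.2 h1p) hk').1]
  have hnC : u * Dt.a⁻¹ ∈ Subgroup.centralizer (P : Set G) := by
    rw [← Dt.setup.centralizer_eq (Dt.pw_mem 1) (Dt.pw_ne h1p),
      Subgroup.mem_centralizer_singleton_iff]
    have e : Dt.a⁻¹ * pw Dt.x (1 : ZMod p) * Dt.a = pw Dt.x (-1 : ZMod p) := by
      conv_lhs => rw [← neg_neg (1 : ZMod p), ← Dt.a_inv (-1)]
      group
    have e2 : u * pw Dt.x (-1 : ZMod p) * u⁻¹ = pw Dt.x (1 : ZMod p) := by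
      have := congrArg (fun g => g⁻¹) hz
      have e3 : ∀ s : ZMod p, (pw Dt.x s)⁻¹ = pw Dt.x (-s) := fun s => by
        refine (eq_inv_of_mul_eq_one_left ?_).symm
        rw [← pw_add Dt.x_ord, neg_add_cancel, Dt.pw_zero]
      simp only [mul_inv_rev, inv_inv, e3, neg_neg, ← mul_assoc] at this
      exact this
    refine mul_inv_eq_iff_eq_mul.1 ?_
    rw [show u * Dt.a⁻¹ * pw Dt.x (1 : ZMod p) * (u * Dt.a⁻¹)⁻¹ = u * (Dt.a⁻¹ * pw Dt.x (1 : ZMod p) * Dt.a) * u⁻¹ by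
      group, e, e2]
  obtain ⟨q, hq, l, hl, hql⟩ := Dt.C_dec hnC
  obtain ⟨s, rfl⟩ := Dt.setup.exists_pw Dt.x_mem Dt.x_ord hq
  have hua : u = pw Dt.x s * Dt.a * l := by
    rw [← inv_mul_cancel_right u Dt.a, hql, ← Dt.K_comm hKZ hl (pw Dt.x s), mul_assoc, mul_assoc,
      Dt.K_comm hKZ hl Dt.a]
  have hζ := Dt.isClassFunction_irr ζ
  have hμ : (ζ : G → ℂ) Dt.a ≠ 0 := fun e => by
    have := Dt.norm_ζ_a hKZ
    rw [e, norm_zero] at this
    exact zero_ne_one this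
  have hl1 : l = 1 := Dt.lam_eq_one hKZ hfaith hl (mul_left_cancel₀ hμ (by
    rw [mul_one]
    conv_rhs => rw [← hζ Dt.a b, ← hζ (b * Dt.a * b⁻¹) c, ← hu, hua, Dt.ζ_central hKZ _ hl,
      Dt.coset_val hζ]))
  rw [hl1, mul_one] at hua
  have hm : c0⁻¹ * k ∈ Dt.K := mul_mem (inv_mem hK) hk
  have hva : v = pw Dt.x (s - 1) * Dt.a * (c0⁻¹ * k) := by
    have e : pw Dt.x (s - 1) * Dt.a = Dt.a * pw Dt.x (1 - s) := by
      rw [Dt.a_inv', neg_sub]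
    have e4 : (pw Dt.x s)⁻¹ * pw Dt.x (1 : ZMod p) = pw Dt.x (1 - s) := by
      rw [inv_mul_eq_iff_eq_mul, ← pw_add Dt.x_ord, add_sub_cancel]
    calc v = u⁻¹ * (pw Dt.x (1 : ZMod p) * k) := by rw [← huv, inv_mul_cancel_left]
      _ = Dt.a⁻¹ * ((pw Dt.x s)⁻¹ * pw Dt.x (1 : ZMod p)) * k := by rw [hua]; group
      _ = Dt.a⁻¹ * pw Dt.x (1 - s) * k := by rw [e4]
      _ = Dt.a * (c0⁻¹ * pw Dt.x (1 - s)) * k := by rw [hc0]; group
      _ = _ := by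
        rw [e, ← Dt.K_comm hKZ (inv_mem hK) (pw Dt.x (1 - s))]
        simp only [mul_assoc]
  refine hne (inv_mul_eq_one.1 (Dt.lam_eq_one hKZ hfaith hm (mul_left_cancel₀ hμ ?_))).symm
  rw [mul_one]
  conv_rhs => rw [← hζ Dt.a c, ← hv, hva, Dt.ζ_central hKZ _ hm, Dt.coset_val hζ]

end Datum

end Cfsg.Agent.Fg24.SmallDeg
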