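import Cfsg.Agent.Fg24.SmallDeg.Orth

/-!
# Faithful characters of degree `p - 2`: the family of conjugates and its complement
-/

set_option autoImplicit false
set_option linter.unusedSectionVars false

open Cfsg
open scoped ComplexConjugate Classical

namespace Cfsg.Agent.Fg24.SmallDeg

open Cfsg.Agent.BlockThms.OrderP

universe u

variable {G : Type u} [Group G] [Fintype G] {p : ℕ} [Fact p.Prime] {P : Sylow p G}
  {ζ : IrrCharacter G} (Dt : Datum P ζ)

namespace Datum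

include Dt

theorem θ_neg_K (r : ZMod p) {c : G} (hc : c ∈ Dt.K) : Dt.θ (-r) c = Dt.θ r c := by
  by_cases h0 : r = 0
  · rw [h0, neg_zero]
  by_cases h1 : r = Dt.i
  · rw [h1, Dt.θ_neg_i, Dt.θ_i]
  by_cases h2 : r = -Dt.i
  · rw [h2, neg_neg, Dt.θ_i, Dt.θ_neg_i]
  rw [Dt.θ_generic ⟨h0, h1, h2⟩ hc, Dt.θ_generic ⟨neg_ne_zero.2 h0,
    fun e => h2 (by rw [← e, neg_neg]), fun e => h1 (neg_injective e)⟩ hc]

theorem conjIrr_eq_iff {u v : ZMod p} (hu : u ≠ 0) (hv : v ≠ 0) :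
    Dt.conjIrr u = Dt.conjIrr v ↔ v = u ∨ v = -u := by
  constructor
  · intro h
    by_contra hne
    push Not at hne
    have h0 := Dt.norm_sub hu hv
    rw [if_pos h] at h0
    have h1 := (Finset.sum_eq_zero_iff_of_nonneg fun s _ =>
      Finset.sum_nonneg fun (k : Dt.K) _ => Complex.normSq_nonneg _).1 h0 (u * Dt.i)
      (Finset.mem_univ _)
    have h2 := (Finset.sum_eq_zero_iff_of_nonneg fun (k : Dt.K) _ => Complex.normSq_nonneg _).1 h1 1
      (Finset.mem_univ _)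
    rw [inv_mul_cancel_left₀ hu, Dt.θ_i, zero_sub, Complex.normSq_neg, OneMemClass.coe_one,
      Dt.θ_one _ (fun e => hne.1 ?_) (fun e => hne.2 ?_), map_one] at h2
    · exact one_ne_zero h2
    · have e' := congrArg (fun z => v * z) e
      simp only [mul_inv_cancel_left₀ hv] at e'
      exact (mul_right_cancel₀ Dt.i_ne e').symm
    · have e' := congrArg (fun z => v * z) e
      simp only [mul_inv_cancel_left₀ hv, mul_neg, ← neg_mul] at e'
      exact neg_eq_iff_eq_neg.1 (mul_right_cancel₀ Dt.i_ne e').symm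
  · rintro (rfl | rfl)
    · rfl
    by_contra hne
    have h0 := Dt.norm_sub hu (neg_ne_zero.2 hu)
    rw [if_neg hne, Finset.sum_eq_zero fun s _ => Finset.sum_eq_zero fun (k : Dt.K) _ => ?_] at h0
    · exact mul_ne_zero four_ne_zero (Nat.cast_ne_zero.2 (Nat.card_pos (α := Dt.K)).ne') h0.symm
    · rw [inv_neg, neg_mul, Dt.θ_neg_K _ k.2, sub_self, map_zero]

/-- The distinct conjugates of `ζ`. -/
noncomputable def fam : Finset (IrrCharacter G) :=
  ((Finset.univ : Finset (ZMod p)).erase 0).image Dt.conjIrr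

theorem mem_fam {χ : IrrCharacter G} : χ ∈ Dt.fam ↔ ∃ u, u ≠ 0 ∧ Dt.conjIrr u = χ := by
  simp [fam]

theorem two_sum_fam (f : IrrCharacter G → ℂ) :
    2 * ∑ χ ∈ Dt.fam, f χ = ∑ u ∈ (Finset.univ : Finset (ZMod p)).erase 0, f (Dt.conjIrr u) := by
  rw [← Finset.sum_fiberwise_of_maps_to (t := Dt.fam)
    (g := Dt.conjIrr) (fun u hu => Finset.mem_image_of_mem _ hu), Finset.mul_sum]
  refine Finset.sum_congr rfl fun χ hχ => ?_
  obtain ⟨u, hu, rfl⟩ := Dt.mem_fam.1 hχ
  have h : ((Finset.univ : Finset (ZMod p)).erase 0).filter (fun v => Dt.conjIrr v = Dt.conjIrr u)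
      = {u, -u} := by
    ext v
    simp only [Finset.mem_filter, Finset.mem_erase, Finset.mem_univ, and_true, Finset.mem_insert,
      Finset.mem_singleton]
    constructor
    · rintro ⟨hv, he⟩
      exact (Dt.conjIrr_eq_iff hu hv).1 he.symm
    · intro hv
      have hv0 : v ≠ 0 := by rcases hv with rfl | rfl <;> [exact hu; exact neg_ne_zero.2 hu]
      exact ⟨hv0, ((Dt.conjIrr_eq_iff hu hv0).2 hv).symm⟩
  rw [Finset.sum_congr rfl (g := fun _ => f (Dt.conjIrr u)) (fun v hv => by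
      rw [(Finset.mem_filter.1 hv).2]), h, Finset.sum_const, Finset.card_pair (Dt.ne_neg hu),
    nsmul_eq_mul, Nat.cast_two]

theorem isClassFunction_irr (χ : IrrCharacter G) : IsClassFunction G (χ : G → ℂ) :=
  Char.isClassFunction_of_isIrr χ.2

theorem isCharacter_irr (χ : IrrCharacter G) : IsCharacter G (χ : G → ℂ) :=
  Char.IsIrr.isCharacter χ.2

theorem psi_two_sum {a : ZMod p} (ha : a ≠ 0) :
    ∑ u ∈ (Finset.univ : Finset (ZMod p)).erase 0, (psi p (u * a) + psi p (-(u * a))) = -2 := by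

  have h1 : ∑ u : ZMod p, psi p (u * a) = 0 := by
    simp only [mul_comm _ a]; rw [sum_psi, if_neg ha]
  have h2 : ∑ u : ZMod p, psi p (-(u * a)) = 0 := by
    simp only [← mul_neg, mul_comm _ (-a)]; rw [sum_psi, if_neg (neg_ne_zero.2 ha)]
  rw [Finset.sum_erase_eq_sub (Finset.mem_univ _), Finset.sum_add_distrib, h1, h2]
  simp only [zero_mul, neg_zero, AddChar.map_zero_eq_one]
  norm_num

theorem avg_fam {θ : G → ℂ} {u : ZMod p} (hu : u ≠ 0) {t : ZMod p} (ht : t ≠ 0) :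
    Dt.avgK θ (Dt.conjIrr u : G → ℂ) t = Dt.dot (Dt.θ 0) θ +
      Dt.dot (Dt.θ Dt.j) θ * (-1 - psi p (u * Dt.i * t) - psi p (-(u * Dt.i * t))) := by
  rw [avgK, dot, dot, mul_assoc, Finset.sum_mul, ← mul_add, ← Finset.sum_add_distrib]
  congr 1
  refine Finset.sum_congr rfl fun k _ => ?_
  rw [Dt.conjIrr_line hu t k.2, if_neg ht]
  ring

/-- Outside the family the averaged values against the generic character are constant. -/
theorem avg_out {χ : IrrCharacter G} (hχ : χ ∉ Dt.fam) :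
    ∃ c : ℤ, ∀ t : ZMod p, t ≠ 0 → Dt.avgK (Dt.θ Dt.j) (χ : G → ℂ) t = c := by
  set m := Dt.mult (Dt.θ Dt.j) (χ : G → ℂ) with hm
  have hneg : ∀ r, m (-r) = m r := fun r => Dt.mult_neg Dt.lin_j (Dt.isClassFunction_irr χ) r
  have heq : ∀ r, r ≠ 0 → m r = m Dt.i := by
    intro r hr
    by_cases h1 : r = Dt.i
    · rw [h1]
    by_cases h2 : r = -Dt.i
    · rw [h2, hneg]
    obtain ⟨u, hu, rfl⟩ : ∃ u, u ≠ 0 ∧ u * Dt.i = r :=
      ⟨r * Dt.i⁻¹, mul_ne_zero hr (inv_ne_zero Dt.i_ne), inv_mul_cancel_right₀ Dt.i_ne r⟩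
    have hin : classInner (χ : G → ℂ)
        (fun g => (Dt.conjIrr u : G → ℂ) g - (Dt.conjIrr 1 : G → ℂ) g) = 0 := by
      rw [show (fun g => (Dt.conjIrr u : G → ℂ) g - (Dt.conjIrr 1 : G → ℂ) g) =
        (Dt.conjIrr u : G → ℂ) - (Dt.conjIrr 1 : G → ℂ) from rfl, Char.classInner_sub_right,
        Char.classInner_irrChar, Char.classInner_irrChar,
        if_neg (fun e => hχ (Dt.mem_fam.2 ⟨u, hu, e.symm⟩)),
        if_neg (fun e => hχ (Dt.mem_fam.2 ⟨1, one_ne_zero, e.symm⟩)), sub_zero]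
    have h := Dt.classInner_singular (Dt.isClassFunction_irr χ) (Dt.isClassFunction_sub u 1)
      (fun g hg => Dt.sub_reg u 1 hg)
    rw [hin, mul_zero] at h
    have h2 : ∀ t : ZMod p, ∑ k : Dt.K, (χ : G → ℂ) (pw Dt.x t * k) *
        conj ((Dt.conjIrr u : G → ℂ) (pw Dt.x t * k) - (Dt.conjIrr 1 : G → ℂ) (pw Dt.x t * k)) =
        (Nat.card Dt.K : ℂ) * (Dt.avgK (Dt.θ Dt.j) (χ : G → ℂ) t *
          (psi p (-(Dt.i * t)) + psi p (-(-Dt.i * t)) - psi p (-(u * Dt.i * t))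
            - psi p (-(-(u * Dt.i) * t)))) := by
      intro t
      rw [avgK, ← mul_assoc, mul_inv_cancel_left₀ Dt.card_K_ne, Finset.sum_mul]
      refine Finset.sum_congr rfl fun k _ => ?_
      rw [Dt.conjIrr_line hu t k.2, Dt.conjIrr_line one_ne_zero t k.2, one_mul]
      simp only [map_sub, map_add, map_mul, map_one, conj_psi, neg_mul, neg_neg]
      ring
    rw [Finset.sum_congr rfl fun t _ => h2 t, ← Finset.mul_sum, eq_comm, mul_eq_zero] at h
    have h3 : m Dt.i + m (-Dt.i) - m (u * Dt.i) - m (-(u * Dt.i)) = 0 := by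
      simp only [hm, mult, ← mul_add, ← mul_sub, ← Finset.sum_add_distrib,
        ← Finset.sum_sub_distrib]
      rw [h.resolve_left Dt.card_K_ne, mul_zero]
    rw [hneg, hneg] at h3
    linear_combination (-(1 : ℂ) / 2) * h3
  obtain ⟨a, ha⟩ := Dt.mult_nat Dt.lin_j (Dt.isCharacter_irr χ) (0 : ZMod p)
  obtain ⟨b, hb⟩ := Dt.mult_nat Dt.lin_j (Dt.isCharacter_irr χ) Dt.i
  refine ⟨(a : ℤ) - b, fun t ht => ?_⟩
  rw [Dt.avg_expand, Finset.sum_congr rfl (g := fun r => m Dt.i * psi p (r * t) +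
      (if r = 0 then m 0 - m Dt.i else 0)) (fun r _ => by
    by_cases hr : r = 0
    · subst hr
      rw [if_pos rfl, zero_mul, AddChar.map_zero_eq_one, ← hm]; ring
    · rw [if_neg hr, add_zero, ← hm, heq r hr]),
    Finset.sum_add_distrib, ← Finset.mul_sum, Finset.sum_ite_eq', if_pos (Finset.mem_univ _)]
  have h0 : ∑ r : ZMod p, psi p (r * t) = 0 := by
    simp only [mul_comm _ t]; rw [sum_psi, if_neg ht]
  rw [h0, mul_zero, zero_add]
  simp only [hm, ha, hb]
  push_cast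
  rfl

end Datum

end Cfsg.Agent.Fg24.SmallDeg
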