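import Cfsg.Agent.Fg24.SmallDeg.Block

/-!
# Faithful characters of degree `p - 2`: comparison with the principal block
-/

set_option autoImplicit false
set_option linter.unusedSectionVars false

open Cfsg
open scoped ComplexConjugate Classical

namespace Cfsg.Agent.Fg24.SmallDeg

open Cfsg.Agent.BlockThms.OrderP

universe u

variable {G : Type u} [Group G] [Fintype G] {p : ℕ} [Fact p.Prime] {P : Sylow p G}
  {ζ : IrrCharacter G}

variable (Dt : Datum P ζ)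

namespace Datum

include Dt

/-- The `θ`-part of the class multiplication sum. -/
noncomputable def part (θ : G → ℂ) : ℂ :=
  ∑ χ : IrrCharacter G,
    (χ : G → ℂ) Dt.a * (χ : G → ℂ) Dt.a * conj (Dt.avgK θ (χ : G → ℂ) 1) / (χ : G → ℂ) 1

variable (hKZ : Dt.K = Subgroup.center G)
  (hfaith : ∀ g : G, (ζ : G → ℂ) g = (ζ : G → ℂ) 1 → g = 1)
include hKZ hfaith

theorem norm_part {θ : G → ℂ} (hθ : Dt.Lin θ) : ‖Dt.part θ‖ = ‖Dt.part (fun _ => (1 : ℂ))‖ := by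
  have hK : Dt.a * Dt.a ∈ Dt.K := Dt.mem_K.2 ⟨Dt.a_sq, Dt.a_sq_reg⟩
  have h : ∀ θ' : G → ℂ, Dt.part θ' = θ' (Dt.a * Dt.a) * ((Nat.card Dt.K : ℂ)⁻¹ *
      ∑ χ : IrrCharacter G, (χ : G → ℂ) Dt.a * (χ : G → ℂ) Dt.a *
        conj ((χ : G → ℂ) (pw Dt.x (1 : ZMod p) * (Dt.a * Dt.a))) / (χ : G → ℂ) 1) := by
    intro θ'
    have h1 : Dt.part θ' = (Nat.card Dt.K : ℂ)⁻¹ * ∑ k : Dt.K, θ' k *
        ∑ χ : IrrCharacter G, (χ : G → ℂ) Dt.a * (χ : G → ℂ) Dt.a *
          conj ((χ : G → ℂ) (pw Dt.x (1 : ZMod p) * k)) / (χ : G → ℂ) 1 := by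
      simp only [part, avgK, map_mul, map_sum, map_inv₀, map_natCast, Complex.conj_conj,
        Finset.mul_sum, Finset.sum_div]
      rw [Finset.sum_comm]
      exact Finset.sum_congr rfl fun k _ => Finset.sum_congr rfl fun χ _ => by ring
    rw [h1, Finset.sum_eq_single (⟨_, hK⟩ : Dt.K)]
    · ring
    · intro k _ hk
      rw [Dt.mult_const_zero hKZ hfaith k.2 (fun e => hk (Subtype.ext e)), mul_zero]
    · exact fun hn => absurd (Finset.mem_univ _) hn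
  rw [h θ, h (fun _ => (1 : ℂ)), norm_mul, norm_mul (1 : ℂ), norm_one, one_mul,
    Complex.norm_def (θ _), hθ.norm _ hK, Real.sqrt_one, one_mul]

/-- The part over the trivial character of the centre. -/
theorem part_one_lower :
    ((p : ℝ) - 1) ^ 2 / (p : ℝ) ^ 2 ≤ ‖Dt.part (fun _ => (1 : ℂ))‖ := by
  have hp : p.Prime := Fact.out
  have hp7 := Dt.seven_le
  have h1p : (1 : ZMod p) ≠ 0 := one_ne_zero
  have hreg1 : ¬ p ∣ orderOf (1 : G) := by rw [orderOf_one]; exact hp.not_dvd_one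
  set one' : G → ℂ := fun _ => (1 : ℂ) with hone
  obtain ⟨D⟩ := Brauer.exists_blockData Dt.setup le_rfl
  obtain ⟨χ₁, hX, hne⟩ : ∃ χ₁, D.X = {Blocks.triv G, χ₁} ∧ Blocks.triv G ≠ χ₁ := by
    obtain ⟨a, b, hab, hX⟩ := Finset.card_eq_two.1 D.cardX
    have h := D.triv_mem
    rw [hX, Finset.mem_insert, Finset.mem_singleton] at h
    rcases h with h | h
    · exact ⟨b, by rw [hX, h], h ▸ hab⟩
    · exact ⟨a, by rw [hX, h, Finset.pair_comm], h ▸ hab.symm⟩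
  have hχX : χ₁ ∈ D.X := by rw [hX]; simp
  have hXv : ∀ χ ∈ D.X, ∀ t : ZMod p, t ≠ 0 → Dt.avgK one' (χ : G → ℂ) t = (D.a χ : ℂ) := by
    intro χ hχ t ht
    rw [avgK, Finset.sum_congr rfl (g := fun _ => (D.a χ : ℂ)) (fun k _ => by
      rw [D.valX χ hχ _ (Dt.pw_mem t) (Dt.pw_ne ht) k (Dt.K_le k.2) (Dt.mem_K.1 k.2).2,
        hone, map_one, mul_one]),
      Finset.sum_const, Finset.card_univ, nsmul_eq_mul, ← Nat.card_eq_fintype_card,
      inv_mul_cancel_left₀ Dt.card_K_ne]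
  have hYv : ∀ η ∈ D.Y, ∀ t : ZMod p, t ≠ 0 →
      Dt.avgK one' (η : G → ℂ) t = (η : G → ℂ) (pw Dt.x t) := fun η hη t ht => by
    rw [hone, ← Dt.avg_eq _ ht]
    exact (D.avgY η hη _ (Dt.pw_mem t) (Dt.pw_ne ht)).symm
  have hsplit : ∀ f : IrrCharacter G → ℂ, (∀ χ, χ ∉ D.X → χ ∉ D.Y → f χ = 0) →
      ∑ χ, f χ = f (Blocks.triv G) + f χ₁ + ∑ η ∈ D.Y, f η := by
    intro f hf
    rw [← Finset.sum_subset (Finset.subset_univ (D.X ∪ D.Y)) (fun χ _ hχ => by
      rw [Finset.mem_union, not_or] at hχ; exact hf χ hχ.1 hχ.2),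
      Finset.sum_union D.disj, hX, Finset.sum_pair hne]
  have hout : ∀ χ : IrrCharacter G, χ ∉ D.X → χ ∉ D.Y → ∀ t : ZMod p, t ≠ 0 →
      Dt.avgK one' (χ : G → ℂ) t = 0 := fun χ hx hy t ht => by
    rw [hone, ← Dt.avg_eq _ ht]
    exact D.out χ hx hy _ (Dt.pw_mem t) (Dt.pw_ne ht)
  obtain ⟨η₀, hη₀⟩ : D.Y.Nonempty := Finset.card_pos.1 (by rw [D.cardY]; omega)
  obtain ⟨f, hf0, hf⟩ := Dt.one_irr χ₁
  obtain ⟨y, hy0, hy⟩ := Dt.one_irr η₀
  have hYd : ∀ η ∈ D.Y, (η : G → ℂ) 1 = y := fun η hη => by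
    rw [D.regY η hη η₀ hη₀ 1 hreg1, hy]
  have hav := Dt.a_regular
  set v := (χ₁ : G → ℂ) Dt.a with hv
  set w := (η₀ : G → ℂ) Dt.a with hw
  have hYa : ∀ η ∈ D.Y, (η : G → ℂ) Dt.a = w := fun η hη => D.regY η hη η₀ hη₀ _ hav
  have htriv : ∀ g, ((Blocks.triv G : IrrCharacter G) : G → ℂ) g = 1 := fun g => by
    simp [Blocks.triv]
  set a := D.a χ₁ with ha
  have hrel : ∀ g, ¬ p ∣ orderOf g →
      (D.s : ℂ) * (η₀ : G → ℂ) g + (1 + (a : ℂ) * (χ₁ : G → ℂ) g) = 0 := by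
    intro g hg
    have h := D.rel η₀ hη₀ g hg
    rwa [hX, Finset.sum_pair hne, D.a_triv, htriv, Int.cast_one, one_mul] at h
  have hr1 := hrel 1 hreg1
  rw [hy, hf] at hr1
  have hr1' : D.s * (y : ℤ) + (1 + a * (f : ℤ)) = 0 := by exact_mod_cast hr1
  have hra := hrel Dt.a hav
  rw [← hw, ← hv] at hra
  -- the column of `z`
  have hYsum : ∀ t : ZMod p, t ≠ 0 →
      (y : ℂ) * ∑ η ∈ D.Y, conj ((η : G → ℂ) (pw Dt.x t)) = -(1 + (a : ℂ) * f) := by
    intro t ht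
    have h := Dt.avg_regular one' ht hreg1
    rw [hsplit _ (fun χ hx hy => by rw [hout χ hx hy t ht, map_zero, mul_zero]),
      hXv _ D.triv_mem t ht, hXv _ hχX t ht, D.a_triv, htriv, hf, map_intCast, map_intCast,
      Finset.sum_congr rfl (g := fun η : IrrCharacter G => (y : ℂ) * conj ((η : G → ℂ) (pw Dt.x t)))
        (fun η hη => by rw [hYd η hη, hYv η hη t ht]), ← Finset.mul_sum] at h
    push_cast at h
    linear_combination h
  have hpart : Dt.part one' * ((f : ℂ) * (1 + (a : ℂ) * f)) = (a : ℂ) * ((f : ℂ) - v) ^ 2 := by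
    rw [part, hsplit _ (fun χ hx hy => by rw [hout χ hx hy 1 h1p, map_zero, mul_zero, zero_div]),
      hXv _ D.triv_mem 1 h1p, hXv _ hχX 1 h1p, D.a_triv, htriv, htriv, hf, ← hv, ← ha,
      Finset.sum_congr rfl (g := fun η : IrrCharacter G =>
          (w * w / (y : ℂ)) * conj ((η : G → ℂ) (pw Dt.x (1 : ZMod p))))
        (fun η hη => by rw [hYd η hη, hYa η hη, hYv η hη 1 h1p]; ring),
      ← Finset.mul_sum, map_intCast, map_intCast]
    have hy' : (y : ℂ) ≠ 0 := Nat.cast_ne_zero.2 hy0.ne'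
    have hf' : (f : ℂ) ≠ 0 := Nat.cast_ne_zero.2 hf0.ne'
    have hs2 : (D.s : ℂ) * D.s = 1 := by rcases D.s_or with h | h <;> simp [h]
    have ha2 : (a : ℂ) * a = 1 := by rcases D.a_or χ₁ hχX with h | h <;> simp [ha, h]
    have hs1 : (D.s : ℂ) * y = -(1 + (a : ℂ) * f) := by linear_combination hr1
    have hw' : (D.s : ℂ) * w = -(1 + (a : ℂ) * v) := by linear_combination hra
    have hsum := hYsum 1 h1p
    set Sz := ∑ η ∈ D.Y, conj ((η : G → ℂ) (pw Dt.x (1 : ZMod p)))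
    have key : w * w / (y : ℂ) * Sz * (1 + (a : ℂ) * f) = -((1 + (a : ℂ) * v) ^ 2) := by
      field_simp
      have e1 : (1 + (a : ℂ) * f) ^ 2 = (y : ℂ) ^ 2 := by
        linear_combination -(D.s * y - (1 + (a : ℂ) * f)) * hs1 + (y : ℂ) ^ 2 * hs2
      have e2 : w ^ 2 = (1 + (a : ℂ) * v) ^ 2 := by
        linear_combination (D.s * w - (1 + (a : ℂ) * v)) * hw' - w ^ 2 * hs2
      refine mul_left_cancel₀ hy' ?_
      linear_combination (w ^ 2 * (1 + (a : ℂ) * f)) * hsum - w ^ 2 * e1 - (y : ℂ) ^ 2 * e2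
    push_cast
    field_simp at key ⊢
    linear_combination (f : ℂ) * key
  -- the bounds
  have hfix : ∀ χ : IrrCharacter G, ‖(χ : G → ℂ) Dt.a‖ ≤
      ((p : ℂ)⁻¹ * ∑ t : ZMod p, (χ : G → ℂ) (pw Dt.x t)).re :=
    fun χ => Dt.norm_le_fixed (Dt.isCharacter_irr χ)
  have hvb : (p : ℝ) * ‖v‖ ≤ (f : ℝ) + ((p : ℝ) - 1) * a := by
    have h := hfix χ₁
    rw [Dt.sum_t _ (a : ℂ) (fun t ht => by
      have h2 := D.valX χ₁ hχX _ (Dt.pw_mem t) (Dt.pw_ne ht) 1 (one_mem _) hreg1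
      rwa [mul_one] at h2), Dt.pw_zero, hf, ← hv] at h
    have e : ((p : ℂ)⁻¹ * ((f : ℂ) + ((p : ℂ) - 1) * (a : ℂ))) =
        (((p : ℝ)⁻¹ * ((f : ℝ) + ((p : ℝ) - 1) * (a : ℝ)) : ℝ) : ℂ) := by push_cast; ring
    rw [e, Complex.ofReal_re, ← div_eq_inv_mul, le_div_iff₀ (by exact_mod_cast hp.pos),
      mul_comm] at h
    exact h
  have hnorm : ‖Dt.part one'‖ * ((f : ℝ) * y) = ‖(f : ℂ) - v‖ ^ 2 := by
    have h := congrArg norm hpart
    have hn : ‖(1 + (a : ℂ) * f)‖ = (y : ℝ) := by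
      rw [show (1 + (a : ℂ) * f) = -((D.s : ℂ) * y) by linear_combination hr1, norm_neg, norm_mul,
        Complex.norm_natCast]
      rcases D.s_or with h | h <;> simp [h]
    rw [norm_mul, norm_mul, norm_mul, norm_pow, hn, Complex.norm_natCast] at h
    rw [h]
    rcases D.a_or χ₁ hχX with h | h <;> simp [ha, h]
  have hfv : (f : ℝ) - ‖v‖ ≤ ‖(f : ℂ) - v‖ := by
    have := norm_sub_norm_le (f : ℂ) v
    rwa [Complex.norm_natCast] at this
  have hp' : (7 : ℝ) ≤ p := by exact_mod_cast hp7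
  have hmod : (p : ℤ) ∣ (f : ℤ) - a := by
    have h := Int.modEq_iff_dvd.1 (D.degX χ₁ hχX).symm
    rwa [show charDegree ((χ₁ : IrrCharacter G) : G → ℂ) = f from Blocks.charDegree_eq hf] at h
  obtain ⟨u, hu⟩ := hmod
  have hpZ : (7 : ℤ) ≤ p := by exact_mod_cast hp7
  rw [div_le_iff₀ (by positivity)]
  have hfy : (0 : ℝ) < (f : ℝ) * y := by positivity
  refine le_of_mul_le_mul_right ?_ hfy
  rw [mul_right_comm, hnorm]
  rcases D.a_or χ₁ hχX with ha1 | ha1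
  · -- `a = 1`
    rw [← ha] at ha1
    rw [ha1] at hu hr1' hra
    have hu0 : 0 ≤ u := by nlinarith
    have hfe : (f : ℤ) = u * p + 1 := by linarith
    have hs : D.s = -1 := D.s_or.resolve_left fun h => by rw [h] at hr1'; omega
    have hye : (y : ℤ) = u * p + 2 := by rw [hs] at hr1'; linarith
    have hfR : (f : ℝ) = (u : ℝ) * p + 1 := by exact_mod_cast hfe
    have hyR : (y : ℝ) = (u : ℝ) * p + 2 := by exact_mod_cast hye
    have hvv : ‖(1 : ℂ) + v‖ ≤ u := by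
      have hw1 : w = 1 + v := by rw [hs] at hra; push_cast at hra; linear_combination -hra
      rw [← hw1]
      have hsum : (D.Y.card : ℝ) * ((p : ℝ) * ‖w‖) ≤
          (D.Y.card : ℝ) * y + ((p : ℝ) - 1) * (-1) := by
        have h : ∀ η ∈ D.Y, (p : ℝ) * ‖w‖ ≤ (∑ t : ZMod p, (η : G → ℂ) (pw Dt.x t)).re := by
          intro η hη
          have h := hfix η
          rw [hYa η hη, show (p : ℂ)⁻¹ = (((p : ℝ)⁻¹ : ℝ) : ℂ) by push_cast; rfl,
            Complex.re_ofReal_mul, ← div_eq_inv_mul, le_div_iff₀ (by positivity), mul_comm] at h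
          exact h
        refine le_trans (le_of_eq ?_) ((Finset.sum_le_sum h).trans (le_of_eq ?_))
        · rw [Finset.sum_const, nsmul_eq_mul]
        · rw [← Complex.re_sum, Finset.sum_comm, Dt.sum_t _ (-1 : ℂ) (fun t ht => ?_),
            Finset.sum_congr rfl (g := fun _ => (y : ℂ)) (fun η hη => by
              rw [Dt.pw_zero, hYd η hη]), Finset.sum_const, nsmul_eq_mul]
          · simp
          · have h := hYsum t ht
            rw [← map_sum, ha1, Int.cast_one, one_mul] at h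
            have hyC : (y : ℂ) = 1 + f := by
              rw [show (y : ℂ) = ((y : ℤ) : ℂ) by norm_cast, show (f : ℂ) = ((f : ℤ) : ℂ) by norm_cast,
                hye, hfe]
              push_cast; ring
            have h2 : conj (∑ η ∈ D.Y, (η : G → ℂ) (pw Dt.x t)) = -1 :=
              mul_left_cancel₀ (Nat.cast_ne_zero.2 hy0.ne') (by rw [h, hyC]; ring)
            rw [← Complex.conj_conj (∑ η ∈ D.Y, (η : G → ℂ) (pw Dt.x t)), h2, map_neg, map_one]
      have hc : (D.Y.card : ℝ) * 2 = (p : ℝ) - 1 := by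
        have h : D.Y.card * 2 + 1 = p := by
          rw [D.cardY]
          obtain ⟨q, hq⟩ := hp.odd_of_ne_two (by omega)
          omega
        have h' : (D.Y.card : ℝ) * 2 + 1 = p := by exact_mod_cast h
        linarith
      rw [← hc] at hsum
      have hYpos : (0 : ℝ) < D.Y.card := by nlinarith
      have h2 : (D.Y.card : ℝ) * ((p : ℝ) * ‖w‖) ≤ (D.Y.card : ℝ) * ((u : ℝ) * p) := by
        rw [hyR] at hsum; linarith
      have h3 := le_of_mul_le_mul_left h2 hYpos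
      rw [mul_comm (u : ℝ)] at h3
      exact le_of_mul_le_mul_left h3 (by positivity)
    have hlow : (u : ℝ) * ((p : ℝ) - 1) + 2 ≤ ‖(f : ℂ) - v‖ := by
      have h := norm_sub_norm_le ((f : ℂ) + 1) (1 + v)
      rw [show (f : ℂ) + 1 - (1 + v) = (f : ℂ) - v by ring,
        show ((f : ℂ) + 1) = ((f + 1 : ℕ) : ℂ) by push_cast; ring, Complex.norm_natCast] at h
      push_cast at h
      rw [hfR] at h
      linarith
    have huR : (0 : ℝ) ≤ u := by exact_mod_cast hu0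
    have hsq := mul_self_le_mul_self (by nlinarith) hlow
    rw [hfR, hyR]
    nlinarith [mul_le_mul_of_nonneg_right hsq (sq_nonneg (p : ℝ)),
      mul_nonneg (mul_nonneg huR (show (0 : ℝ) ≤ p by linarith))
        (mul_nonneg (show (0 : ℝ) ≤ (p : ℝ) - 1 by linarith) (show (0 : ℝ) ≤ (p : ℝ) + 3 by linarith))]
  · -- `a = -1`
    rw [← ha] at ha1
    rw [ha1] at hu hr1'
    have hu1 : 1 ≤ u := by nlinarith
    have hfe : (f : ℤ) = u * p - 1 := by linarith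
    have hs : D.s = 1 := D.s_or.resolve_right fun h => by rw [h] at hr1'; nlinarith
    have hye : (y : ℤ) = u * p - 2 := by rw [hs] at hr1'; linarith
    have hfR : (f : ℝ) = (u : ℝ) * p - 1 := by exact_mod_cast hfe
    have hyR : (y : ℝ) = (u : ℝ) * p - 2 := by exact_mod_cast hye
    have huR : (1 : ℝ) ≤ u := by exact_mod_cast hu1
    have hv2 : ‖v‖ ≤ (u : ℝ) - 1 := by
      rw [hfR, ha1] at hvb
      push_cast at hvb
      refine le_of_mul_le_mul_left (a := (p : ℝ)) ?_ (by positivity)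
      linarith
    have hlow : (u : ℝ) * ((p : ℝ) - 1) ≤ ‖(f : ℂ) - v‖ := by
      rw [hfR] at hfv
      linarith
    have hsq := mul_self_le_mul_self (by nlinarith) hlow
    rw [hfR, hyR]
    nlinarith [mul_le_mul_of_nonneg_right hsq (sq_nonneg (p : ℝ)),
      mul_nonneg (sq_nonneg ((p : ℝ) - 1)) (show (0 : ℝ) ≤ 3 * ((u : ℝ) * p) - 2 by nlinarith)]

/-- The block of `λ` contains a linear character. -/
theorem exists_linear : ∃ l : G →* ℂˣ, (∀ k ∈ Dt.K, (l k : ℂ) = Dt.θ Dt.j k) ∧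
    ∀ t : ZMod p, (l (pw Dt.x t) : ℂ) = 1 := by
  have hp : p.Prime := Fact.out
  have h1p : (1 : ZMod p) ≠ 0 := one_ne_zero
  obtain ⟨ρ₁, ρ₂, w, hne, hf₁, hf₂, hv₁, hv₂, hzero, hd₂, hd₁, hreg⟩ := Dt.exists_pair hKZ
  have hc₂ : ∀ g, ∀ k ∈ Dt.K, (ρ₂ : G → ℂ) (g * k) = (ρ₂ : G → ℂ) g * Dt.θ Dt.j k :=
    fun g k hk => Dt.central_char hKZ Dt.lin_j ρ₂ (t := 1)
      (by rw [hv₂ 1 h1p]; exact one_ne_zero) g hk
  have hP₂ : ∀ t, t ≠ 0 → (ρ₂ : G → ℂ) (pw Dt.x t) = 1 := fun t ht => by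
    rw [← Dt.avg_of_central hKZ Dt.lin_j t hc₂, hv₂ t ht]
  suffices hw : w = 0 by
    obtain ⟨l, hl⟩ := Char.IsChar.exists_hom (Dt.isCharacter_irr ρ₂)
      (by rw [hd₂, hw, Nat.cast_zero, zero_mul, zero_add])
    refine ⟨l, fun k hk => ?_, fun t => ?_⟩
    · have h := hc₂ 1 k hk
      rw [one_mul, hl] at h
      simpa using h
    · by_cases ht : t = 0
      · rw [ht, Dt.pw_zero, map_one, Units.val_one]
      · have h := hP₂ t ht
        rw [hl] at h
        exact h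
  by_contra hw
  have hw1 : (1 : ℝ) ≤ w := by exact_mod_cast Nat.one_le_iff_ne_zero.2 hw
  have hp' : (7 : ℝ) ≤ p := by exact_mod_cast Dt.seven_le
  set μ := (ζ : G → ℂ) Dt.a with hμ
  set r := (ρ₂ : G → ℂ) Dt.a with hr
  set H : ℂ := (p : ℂ) - 2 with hH
  set A : ℂ := (w : ℂ) * p + 1 with hA
  set B : ℂ := (w : ℂ) * p + (p : ℂ) - 1 with hB
  have hnA : A = (((w : ℝ) * p + 1 : ℝ) : ℂ) := by rw [hA]; push_cast; ring
  have hnB : B = ((((w : ℝ) + 1) * p - 1 : ℝ) : ℂ) := by rw [hB]; push_cast; ring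
  have hnH : H = (((p : ℝ) - 2 : ℝ) : ℂ) := by rw [hH]; push_cast; ring
  have hpA : (0 : ℝ) < (w : ℝ) * p + 1 := by positivity
  have hpB : (0 : ℝ) < ((w : ℝ) + 1) * p - 1 := by nlinarith
  have hpH : (0 : ℝ) < (p : ℝ) - 2 := by linarith
  have hA0 : A ≠ 0 := by rw [hnA, Complex.ofReal_ne_zero]; exact hpA.ne'
  have hB0 : B ≠ 0 := by rw [hnB, Complex.ofReal_ne_zero]; exact hpB.ne'
  have hH0 : H ≠ 0 := by rw [hnH, Complex.ofReal_ne_zero]; exact hpH.ne'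
  have hpart : Dt.part (Dt.θ Dt.j) = (μ * A - r * H) ^ 2 / (B * A * H) := by
    rw [part, ← Finset.sum_add_sum_compl Dt.fam,
      ← Finset.sum_subset (s₁ := {ρ₁, ρ₂}) (s₂ := Dt.famᶜ)
        (Finset.insert_subset (Finset.mem_compl.2 hf₁)
          (Finset.singleton_subset_iff.2 (Finset.mem_compl.2 hf₂)))
        (fun χ hχ hχ' => by
          rw [Finset.mem_insert, Finset.mem_singleton, not_or] at hχ'
          rw [hzero χ (Finset.mem_compl.1 hχ) hχ'.1 hχ'.2, map_zero, mul_zero, zero_div]),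
      Finset.sum_pair hne, hv₁ 1 h1p, hv₂ 1 h1p, hd₁, hd₂, hreg _ Dt.a_regular, ← hμ, ← hr,
      map_neg, map_one]
    have hfam : ∑ χ ∈ Dt.fam, (χ : G → ℂ) Dt.a * (χ : G → ℂ) Dt.a *
        conj (Dt.avgK (Dt.θ Dt.j) (χ : G → ℂ) 1) / (χ : G → ℂ) 1 = μ * μ / H := by
      have h := Dt.two_sum_fam fun χ => (χ : G → ℂ) Dt.a * (χ : G → ℂ) Dt.a *
        conj (Dt.avgK (Dt.θ Dt.j) (χ : G → ℂ) 1) / (χ : G → ℂ) 1
      rw [Finset.sum_congr rfl (g := fun u => -(μ * μ / H) *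
        (psi p (u * Dt.i) + psi p (-(u * Dt.i)))) (fun u hu => by
          rw [Dt.avg_fam_lam (Finset.mem_erase.1 hu).1 h1p, mul_one, Dt.conjIrr_one,
            Dt.conjIrr_reg u Dt.a_regular, ← hμ, ← hH]
          simp only [map_neg, map_add, conj_psi, neg_neg]
          ring),
        ← Finset.mul_sum, Dt.psi_two_sum Dt.i_ne] at h
      linear_combination (1 / 2 : ℂ) * h
    rw [hfam]
    field_simp
    have : B = A + H := by rw [hA, hB, hH]; ring
    rw [this]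
    ring
  have hr1 : ‖r‖ ≤ (w : ℝ) + 1 := by
    refine (Dt.norm_le_fixed (Dt.isCharacter_irr ρ₂)).trans (le_of_eq ?_)
    rw [Dt.sum_t _ (1 : ℂ) hP₂, Dt.pw_zero, hd₂,
      show (p : ℂ)⁻¹ * ((w : ℂ) * p + 1 + ((p : ℂ) - 1) * 1) = (((w : ℝ) + 1 : ℝ) : ℂ) by
        have := Dt.p_ne
        push_cast
        field_simp
        ring, Complex.ofReal_re]
  have hup : ‖Dt.part (Dt.θ Dt.j)‖ ≤
      ((2 * (w : ℝ) + 1) * ((p : ℝ) - 1)) ^ 2 /
        ((((w : ℝ) + 1) * p - 1) * ((w : ℝ) * p + 1) * ((p : ℝ) - 2)) := by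
    rw [hpart, norm_div, norm_pow, norm_mul, norm_mul, hnA, hnB, hnH, Complex.norm_real,
      Complex.norm_real, Complex.norm_real, Real.norm_of_nonneg hpA.le, Real.norm_of_nonneg hpB.le,
      Real.norm_of_nonneg hpH.le]
    gcongr
    refine (norm_sub_le _ _).trans ?_
    rw [norm_mul, norm_mul, Complex.norm_real, Complex.norm_real, Real.norm_of_nonneg hpA.le,
      Real.norm_of_nonneg hpH.le, hμ, Dt.norm_ζ_a hKZ]
    nlinarith [mul_le_mul_of_nonneg_right hr1 hpH.le]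
  have h1 := Dt.part_one_lower hKZ hfaith
  rw [← Dt.norm_part hKZ hfaith Dt.lin_j] at h1
  exact absurd (h1.trans hup) (not_le.2 (ratio_lt hw1 hp'))

end Datum

end Cfsg.Agent.Fg24.SmallDeg
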