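import Cfsg.Agent.Fg24.SmallDeg.Scalar

/-!
# Faithful characters of degree `p - 2`: the averaged values on the singular classes
-/

set_option autoImplicit false
set_option linter.unusedSectionVars false

open Cfsg
open scoped ComplexConjugate Classical

namespace Cfsg.Agent.Fg24.SmallDeg

open Cfsg.Agent.BlockThms.OrderP

universe u

variable {G : Type u} [Group G] [Fintype G] {p : ℕ} [Fact p.Prime] {P : Sylow p G}
  {ζ : IrrCharacter G} (Dt : Datum P ζ)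

namespace Datum

include Dt

theorem a_conj_C {c : G} (hc : c ∈ Subgroup.centralizer (P : Set G)) :
    Dt.a * c * Dt.a⁻¹ ∈ Subgroup.centralizer (P : Set G) := by
  refine Subgroup.mem_centralizer_iff.2 fun y hy => ?_
  obtain ⟨t, rfl⟩ := Dt.setup.exists_pw Dt.x_mem Dt.x_ord hy
  have h := Subgroup.mem_centralizer_iff.1 hc _ (Dt.pw_mem (-t))
  have h2 : Dt.a * (pw Dt.x (-t) * c) * Dt.a⁻¹ = Dt.a * (c * pw Dt.x (-t)) * Dt.a⁻¹ := by rw [h]
  rw [← conj_mul, ← conj_mul, Dt.a_inv, neg_neg] at h2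
  exact h2

theorem θ_neg {c : G} (hc : c ∈ Subgroup.centralizer (P : Set G)) (r : ZMod p) :
    Dt.θ (-r) (Dt.a * c * Dt.a⁻¹) = Dt.θ r c := by
  have hc' := Dt.a_conj_C hc
  have hv : ∀ t : ZMod p, ∑ s, Dt.θ s c * psi p (s * t) =
      ∑ s, Dt.θ (-s) (Dt.a * c * Dt.a⁻¹) * psi p (s * t) := by
    intro t
    rw [← Dt.val t c hc, ← Char.isClassFunction_of_isIrr ζ.2 _ Dt.a,
      ← conj_mul, Dt.a_inv, Dt.val _ _ hc']
    refine Fintype.sum_equiv (Equiv.neg _) _ _ fun s => ?_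
    simp only [Equiv.neg_apply, neg_neg, mul_neg, neg_mul]
  have hp : (p : ℂ) ≠ 0 := Nat.cast_ne_zero.2 (Fact.out : p.Prime).ne_zero
  refine mul_left_cancel₀ hp ?_
  rw [← inversion (fun s => Dt.θ (-s) (Dt.a * c * Dt.a⁻¹)) r,
    ← inversion (fun s => Dt.θ s c) r]
  exact Finset.sum_congr rfl fun t _ => by rw [hv t]

theorem exists_generic : ∃ r : ZMod p, r ≠ 0 ∧ r ≠ Dt.i ∧ r ≠ -Dt.i := by
  obtain ⟨r, h⟩ := exists_avoid ({0, Dt.i, -Dt.i} : Finset (ZMod p))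
    (lt_of_le_of_lt (b := 3) Finset.card_le_three (by have := Dt.seven_le; omega))
  simp only [Finset.mem_insert, Finset.mem_singleton, not_or] at h
  exact ⟨r, h⟩

/-- A generic line. -/
noncomputable def j : ZMod p := Dt.exists_generic.choose

theorem j_spec : Dt.j ≠ 0 ∧ Dt.j ≠ Dt.i ∧ Dt.j ≠ -Dt.i := Dt.exists_generic.choose_spec

theorem θ_generic {r : ZMod p} (hr : r ≠ 0 ∧ r ≠ Dt.i ∧ r ≠ -Dt.i) {c : G} (hc : c ∈ Dt.K) :
    Dt.θ r c = Dt.θ Dt.j c := Dt.θ_eq hr Dt.j_spec hc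

theorem zero_spec : (0 : ZMod p) ≠ Dt.i ∧ (0 : ZMod p) ≠ -Dt.i :=
  ⟨Dt.i_ne.symm, fun h => Dt.i_ne (neg_eq_zero.1 h.symm)⟩

/-- An `a`-invariant linear character of the complement. -/
structure Lin (Dt : Datum P ζ) (θ : G → ℂ) : Prop where
  one : θ 1 = 1
  mul : ∀ k ∈ Dt.K, ∀ l ∈ Dt.K, θ (k * l) = θ k * θ l
  norm : ∀ k ∈ Dt.K, Complex.normSq (θ k) = 1
  inv : ∀ k ∈ Dt.K, θ (Dt.a * k * Dt.a⁻¹) = θ k

theorem lin_zero : Dt.Lin (Dt.θ 0) where
  one := Dt.θ_one _ Dt.zero_spec.1 Dt.zero_spec.2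
  mul k hk l hl := Dt.θ_mul _ k (Dt.K_le hk) l (Dt.K_le hl)
  norm k hk := Dt.θ_normSq Dt.zero_spec.1 Dt.zero_spec.2 (Dt.K_le hk)
  inv k hk := by
    have h := Dt.θ_neg (Dt.K_le hk) 0
    rwa [neg_zero] at h

theorem lin_j : Dt.Lin (Dt.θ Dt.j) where
  one := Dt.θ_one _ Dt.j_spec.2.1 Dt.j_spec.2.2
  mul k hk l hl := Dt.θ_mul _ k (Dt.K_le hk) l (Dt.K_le hl)
  norm k hk := Dt.θ_normSq Dt.j_spec.2.1 Dt.j_spec.2.2 (Dt.K_le hk)
  inv k hk := by
    have h := Dt.θ_neg (Dt.K_le hk) Dt.j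
    have hk' := Dt.K_conj Dt.a_mem hk
    rw [Dt.θ_generic ⟨neg_ne_zero.2 Dt.j_spec.1, fun e => Dt.j_spec.2.2 (by rw [← e, neg_neg]),
      fun e => Dt.j_spec.2.1 (neg_injective e)⟩ hk'] at h
    exact h

/-- The averaged scalar product of two functions on the complement. -/
noncomputable def dot (θ θ' : G → ℂ) : ℂ :=
  (Nat.card Dt.K : ℂ)⁻¹ * ∑ k : Dt.K, θ k * conj (θ' k)

theorem card_K_ne : (Nat.card Dt.K : ℂ) ≠ 0 := Nat.cast_ne_zero.2 Nat.card_pos.ne'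

theorem dot_self {θ : G → ℂ} (hθ : Dt.Lin θ) : Dt.dot θ θ = 1 := by
  rw [dot, Finset.sum_congr rfl (g := fun _ => (1 : ℂ)) (fun k _ => by
      rw [Complex.mul_conj, hθ.norm _ k.2, Complex.ofReal_one]),
    Finset.sum_const, Finset.card_univ, nsmul_eq_mul, mul_one, ← Nat.card_eq_fintype_card,
    inv_mul_cancel₀ Dt.card_K_ne]

theorem dot_ne {θ θ' : G → ℂ} (hθ : Dt.Lin θ) (hθ' : Dt.Lin θ')
    (h : ¬ ∀ k ∈ Dt.K, θ k = θ' k) : Dt.dot θ θ' = 0 := by
  push Not at h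
  obtain ⟨l, hl, hne⟩ := h
  have h1 : (θ l * conj (θ' l)) * ∑ k : Dt.K, θ k * conj (θ' k) =
      ∑ k : Dt.K, θ k * conj (θ' k) := by
    rw [Finset.mul_sum]
    refine Fintype.sum_equiv (Equiv.mulLeft (⟨l, hl⟩ : Dt.K)) _ _ fun k => ?_
    simp only [Equiv.coe_mulLeft, Subgroup.coe_mul, hθ.mul l hl _ k.2, hθ'.mul l hl _ k.2,
      map_mul]
    ring
  have hfac : θ l * conj (θ' l) ≠ 1 := fun e => hne (by
    have h2 : θ' l * conj (θ' l) = 1 := by
      rw [Complex.mul_conj, hθ'.norm l hl, Complex.ofReal_one]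
    exact mul_right_cancel₀ (right_ne_zero_of_mul_eq_one h2) (e.trans h2.symm))
  rw [dot, (mul_eq_zero.1 (show (θ l * conj (θ' l) - 1) * ∑ k : Dt.K, θ k * conj (θ' k) = 0 by
    rw [sub_mul, h1, one_mul, sub_self])).resolve_left (sub_ne_zero.2 hfac), mul_zero]

/-- The value of `χ` on `z K` averaged against `θ`. -/
noncomputable def avgK (θ : G → ℂ) (χ : G → ℂ) (t : ZMod p) : ℂ :=
  (Nat.card Dt.K : ℂ)⁻¹ * ∑ k : Dt.K, χ (pw Dt.x t * k) * conj (θ k)

theorem avg_regular (θ : G → ℂ) {t : ZMod p} (ht : t ≠ 0) {g : G} (hg : ¬ p ∣ orderOf g) :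
    ∑ χ : IrrCharacter G, (χ : G → ℂ) g * conj (Dt.avgK θ (χ : G → ℂ) t) = 0 := by
  have h : ∀ χ : IrrCharacter G, (χ : G → ℂ) g * conj (Dt.avgK θ (χ : G → ℂ) t) =
      (Nat.card Dt.K : ℂ)⁻¹ *
        ∑ k : Dt.K, θ k * ((χ : G → ℂ) g * conj ((χ : G → ℂ) (pw Dt.x t * k))) := by
    intro χ
    simp only [avgK, map_mul, map_sum, map_inv₀, map_natCast, Complex.conj_conj, Finset.mul_sum]
    exact Finset.sum_congr rfl fun k _ => by ring
  rw [Finset.sum_congr rfl fun χ _ => h χ, ← Finset.mul_sum, Finset.sum_comm,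
    Finset.sum_eq_zero (fun k _ => ?_), mul_zero]
  rw [← Finset.mul_sum, Char.second_orthogonality, if_neg (fun hc => hg ?_), mul_zero]
  obtain ⟨c, hc'⟩ := _root_.isConj_iff.1 hc.symm
  rw [← hc', ← MulAut.conj_apply, MulEquiv.orderOf_eq]
  exact (Dt.parts ht k.2).2

theorem avg_orth (θ θ' : G → ℂ) {t : ZMod p} (ht : t ≠ 0) :
    ∑ χ : IrrCharacter G, Dt.avgK θ (χ : G → ℂ) t * conj (Dt.avgK θ' (χ : G → ℂ) t) =
      (p : ℂ) * Dt.dot θ' θ := by
  have h : ∀ χ : IrrCharacter G, Dt.avgK θ (χ : G → ℂ) t * conj (Dt.avgK θ' (χ : G → ℂ) t) =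
      (Nat.card Dt.K : ℂ)⁻¹ * (Nat.card Dt.K : ℂ)⁻¹ * ∑ k : Dt.K, ∑ l : Dt.K,
        conj (θ k) * θ' l *
          ((χ : G → ℂ) (pw Dt.x t * k) * conj ((χ : G → ℂ) (pw Dt.x t * l))) := by
    intro χ
    simp only [avgK, map_mul, map_sum, map_inv₀, map_natCast, Complex.conj_conj, Finset.mul_sum,
      Finset.sum_mul]
    rw [Finset.sum_comm]
    exact Finset.sum_congr rfl fun k _ => Finset.sum_congr rfl fun l _ => by ring
  rw [Finset.sum_congr rfl fun χ _ => h χ, ← Finset.mul_sum, Finset.sum_comm,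
    Finset.sum_congr rfl (g := fun k : Dt.K =>
      ((p : ℂ) * (Nat.card Dt.K : ℂ)) * (θ' k * conj (θ k))) (fun k _ => ?_),
    ← Finset.mul_sum, dot]
  · have := Dt.card_K_ne
    field_simp
  · rw [Finset.sum_comm, Finset.sum_eq_single k]
    · rw [← Finset.mul_sum, Char.second_orthogonality, if_pos (IsConj.refl _),
        Dt.card_centralizer ht k.2, Nat.cast_mul]
      ring
    · intro l _ hl
      rw [← Finset.mul_sum, Char.second_orthogonality,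
        if_neg (fun hc => hl (Subtype.ext ((Dt.pw_isConj ht k.2 l.2).1 hc).symm)), mul_zero]
    · exact fun hk => absurd (Finset.mem_univ _) hk

theorem avg_neg {θ : G → ℂ} (hθ : Dt.Lin θ) {χ : G → ℂ} (hχ : IsClassFunction G χ) (t : ZMod p) :
    Dt.avgK θ χ (-t) = Dt.avgK θ χ t := by
  rw [avgK, avgK]
  congr 1
  symm
  let f : Dt.K → Dt.K := fun k => ⟨Dt.a * k * Dt.a⁻¹, Dt.K_conj Dt.a_mem k.2⟩
  have hf : Function.Bijective f := Finite.injective_iff_bijective.1 fun k l h =>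
    Subtype.ext (mul_left_cancel (mul_right_cancel (congrArg Subtype.val h :
      Dt.a * (k : G) * Dt.a⁻¹ = Dt.a * (l : G) * Dt.a⁻¹)))
  refine Fintype.sum_bijective f hf _ _ fun k => ?_
  show χ (pw Dt.x t * k) * conj (θ k) =
    χ (pw Dt.x (-t) * (Dt.a * k * Dt.a⁻¹)) * conj (θ (Dt.a * k * Dt.a⁻¹))
  rw [hθ.inv _ k.2, ← Dt.a_inv t, conj_mul, hχ]

/-- The multiplicity of the eigenline `r` in the `θ`-part of `χ`. -/
noncomputable def mult (θ : G → ℂ) (χ : G → ℂ) (r : ZMod p) : ℂ :=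
  (p : ℂ)⁻¹ * ∑ t : ZMod p, Dt.avgK θ χ t * psi p (-(r * t))

theorem p_ne : (p : ℂ) ≠ 0 := Nat.cast_ne_zero.2 (Fact.out : p.Prime).ne_zero

theorem avg_expand (θ : G → ℂ) (χ : G → ℂ) (t : ZMod p) :
    Dt.avgK θ χ t = ∑ r, Dt.mult θ χ r * psi p (r * t) := by
  refine mul_left_cancel₀ Dt.p_ne ?_
  have h := inversion (fun s => Dt.avgK θ χ (-s)) (-t)
  simp only [neg_neg] at h
  rw [← h, Finset.mul_sum]
  refine Finset.sum_congr rfl fun r _ => ?_
  rw [mult, mul_assoc (p : ℂ)⁻¹, mul_inv_cancel_left₀ Dt.p_ne, neg_mul, neg_neg, mul_comm r t]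
  congr 1
  refine Fintype.sum_equiv (Equiv.neg _) _ _ fun s => ?_
  simp only [Equiv.neg_apply, mul_neg, neg_neg, mul_comm s r]

theorem mult_neg {θ : G → ℂ} (hθ : Dt.Lin θ) {χ : G → ℂ} (hχ : IsClassFunction G χ) (r : ZMod p) :
    Dt.mult θ χ (-r) = Dt.mult θ χ r := by
  rw [mult, mult]
  congr 1
  refine Fintype.sum_equiv (Equiv.neg _) _ _ fun t => ?_
  simp only [Equiv.neg_apply, Dt.avg_neg hθ hχ, neg_mul, mul_neg, neg_neg]

theorem mult_nat {θ : G → ℂ} (hθ : Dt.Lin θ) {χ : G → ℂ} (hχ : IsCharacter G χ) (r : ZMod p) :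
    ∃ n : ℕ, Dt.mult θ χ r = n := by
  let e : Multiplicative (ZMod p) × Dt.K →* G :=
    { toFun := fun z => pw Dt.x (Multiplicative.toAdd z.1) * z.2
      map_one' := by simp [Dt.pw_zero]
      map_mul' := fun z w => by
        simp only [Prod.fst_mul, Prod.snd_mul, toAdd_mul, Subgroup.coe_mul, pw_add Dt.x_ord]
        exact Commute.mul_mul_mul_comm (Dt.pw_comm _ (Dt.K_le z.2.2)) _ _ }
  let l : Multiplicative (ZMod p) × Dt.K →* ℂ :=
    { toFun := fun z => psi p (r * Multiplicative.toAdd z.1) * θ z.2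
      map_one' := by simp [hθ.one]
      map_mul' := fun z w => by
        simp only [Prod.fst_mul, Prod.snd_mul, toAdd_mul, Subgroup.coe_mul, mul_add,
          AddChar.map_add_eq_mul, hθ.mul _ z.2.2 _ w.2.2]
        ring }
  obtain ⟨n, hn⟩ := Char.classInner_isCharacter_eq_natCast (Char.isCharacter_comp e hχ)
    (Char.isCharacter_hom (MonoidHom.toHomUnits l))
  refine ⟨n, ?_⟩
  have hcard : Nat.card (Multiplicative (ZMod p) × Dt.K) = p * Nat.card Dt.K := by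
    rw [Nat.card_prod, Nat.card_congr (Multiplicative.toAdd (α := ZMod p)), Nat.card_zmod]
  rw [← hn, classInner, hcard, Nat.cast_mul, mult, mul_inv, mul_assoc]
  congr 1
  rw [Fintype.sum_prod_type, Finset.mul_sum]
  symm
  refine Fintype.sum_equiv Multiplicative.toAdd _ _ fun t => ?_
  rw [avgK, mul_assoc, Finset.sum_mul]
  congr 1
  refine Finset.sum_congr rfl fun k _ => ?_
  show χ (pw Dt.x (Multiplicative.toAdd t) * k) * conj (psi p (r * Multiplicative.toAdd t) * θ k) = _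
  rw [map_mul, conj_psi]
  ring

/-- The values of the conjugates of `ζ`. -/
theorem conjIrr_line {u : ZMod p} (hu : u ≠ 0) (t : ZMod p) {c : G} (hc : c ∈ Dt.K) :
    (Dt.conjIrr u : G → ℂ) (pw Dt.x t * c) = Dt.θ 0 c + Dt.θ Dt.j c *
      ((if t = 0 then (p : ℂ) else 0) - 1 - psi p (u * Dt.i * t) - psi p (-(u * Dt.i * t))) := by
  rw [Dt.conjIrr_val hu t hc]
  have hui : u * Dt.i ≠ 0 := mul_ne_zero hu Dt.i_ne
  have h : ∀ s, Dt.θ (u⁻¹ * s) c = Dt.θ Dt.j c + (if s = 0 then Dt.θ 0 c - Dt.θ Dt.j c else 0) -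
      (if s = u * Dt.i then Dt.θ Dt.j c else 0) - (if s = -(u * Dt.i) then Dt.θ Dt.j c else 0) := by
    intro s
    by_cases h0 : s = 0
    · subst h0
      rw [mul_zero, if_pos rfl, if_neg hui.symm, if_neg (neg_ne_zero.2 hui).symm]
      ring
    by_cases h1 : s = u * Dt.i
    · subst h1
      rw [inv_mul_cancel_left₀ hu, Dt.θ_i, if_neg h0, if_pos rfl, if_neg (Dt.ne_neg hui)]
      ring
    by_cases h2 : s = -(u * Dt.i)
    · subst h2
      rw [mul_neg, inv_mul_cancel_left₀ hu, Dt.θ_neg_i, if_neg h0, if_neg h1, if_pos rfl]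
      ring
    rw [Dt.θ_generic ⟨mul_ne_zero (inv_ne_zero hu) h0,
      fun e => h1 (by rw [← e, mul_inv_cancel_left₀ hu]),
      fun e => h2 (by rw [← mul_neg, ← e, mul_inv_cancel_left₀ hu])⟩ hc, if_neg h0, if_neg h1,
      if_neg h2]
    ring
  simp only [h, add_mul, sub_mul, ite_mul, zero_mul, Finset.sum_add_distrib, Finset.sum_sub_distrib,
    ← Finset.mul_sum, Finset.sum_ite_eq', Finset.mem_univ, if_true, zero_mul,
    AddChar.map_zero_eq_one]
  rw [show ∑ s : ZMod p, psi p (s * t) = if t = 0 then (p : ℂ) else 0 by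
    simp only [mul_comm _ t]; exact sum_psi t, neg_mul]
  ring

end Datum

end Cfsg.Agent.Fg24.SmallDeg
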