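import Cfsg.Agent.Fg24.SmallDeg.Identity
import Cfsg.Agent.Fg24.Brauer.DegTwoP
import Cfsg.Agent.S0996
import Cfsg.Agent.Char.UniqueDivisible

/-!
# Faithful characters of degree `p - 2`: the quotient by the centre
-/

set_option autoImplicit false
set_option linter.unusedSectionVars false

open Cfsg
open scoped ComplexConjugate Classical

namespace Cfsg.Agent.Fg24.SmallDeg

open Cfsg.Agent.BlockThms.OrderP

universe u

variable {p : ℕ} [Fact p.Prime]

/-- The group with a self-centralizing Sylow subgroup and a character of degree `p - 2` in the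
principal block. -/
theorem core {Q : Type u} [Group Q] [Fintype Q] (hp7 : 7 ≤ p) {R : Sylow p Q} (hS : Setup R 2)
    (hC : Subgroup.centralizer (R : Set Q) = (R : Subgroup Q))
    (hnn : ¬ (R : Subgroup Q).Normal) (hinv : ∀ z ∈ (R : Subgroup Q), ∃ g, g * z * g⁻¹ = z⁻¹)
    (ξ : IrrCharacter Q) (hdeg : (ξ : Q → ℂ) 1 = (p : ℂ) - 2)
    (hξ : ¬ ∃ c : ℂ, ∀ z ∈ (R : Subgroup Q), z ≠ 1 → (ξ : Q → ℂ) z = c)
    (hξf : ∀ g : Q, (ξ : Q → ℂ) g = (ξ : Q → ℂ) 1 → g = 1) :
    commutator Q = ⊤ ∧ ∃ (a : ℕ) (F : Type) (_ : Field F) (_ : Fintype F), p = 2 ^ a + 1 ∧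
      Fintype.card F = 2 ^ a ∧ Nonempty (Q ≃* Matrix.SpecialLinearGroup (Fin 2) F) := by
  have hp : p.Prime := Fact.out
  obtain ⟨F⟩ := Brauer.exists_frame hS hC
  obtain ⟨D⟩ := Brauer.exists_blockData hS le_rfl
  have hreg1 : ¬ p ∣ orderOf (1 : Q) := by rw [orderOf_one]; exact hp.not_dvd_one
  obtain ⟨x, hx, hx1, hxo⟩ := hS.exists_gen
  have hxv : ∀ χ ∈ D.X, ∀ z ∈ (R : Subgroup Q), z ≠ 1 → (χ : Q → ℂ) z = (D.a χ : ℂ) :=
    fun χ hχ z hz hz1 => D.val_P hχ hz hz1
  have hblock : ∀ θ : IrrCharacter Q, (∃ z ∈ (R : Subgroup Q), z ≠ 1 ∧ (θ : Q → ℂ) z ≠ 0) →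
      θ ∈ D.X ∨ θ ∈ D.Y := by
    rintro θ ⟨z, hz, hz1, hne⟩
    by_contra h
    push Not at h
    exact hne (by rw [← F.avg_eq hz hz1 (θ : Q → ℂ)]; exact D.out θ h.1 h.2 z hz hz1)
  have hξY : ξ ∈ D.Y := by
    obtain ⟨z, hz, hz1, hne⟩ : ∃ z ∈ (R : Subgroup Q), z ≠ 1 ∧ (ξ : Q → ℂ) z ≠ 0 := by
      by_contra h
      push Not at h
      exact hξ ⟨0, h⟩
    exact (hblock ξ ⟨z, hz, hz1, hne⟩).resolve_left fun h => hξ ⟨_, hxv ξ h⟩
  have hYd : ∀ η ∈ D.Y, charDegree (η : Q → ℂ) = p - 2 := fun η hη => Blocks.charDegree_eq (by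
    rw [D.regY η hη ξ hξY 1 hreg1, hdeg, Nat.cast_sub (by omega), Nat.cast_two])
  obtain ⟨χ, hX, hχt⟩ : ∃ χ, D.X = {Blocks.triv Q, χ} ∧ Blocks.triv Q ≠ χ := by
    obtain ⟨a, b, hab, hX⟩ := Finset.card_eq_two.1 D.cardX
    have h := D.triv_mem
    rw [hX, Finset.mem_insert, Finset.mem_singleton] at h
    rcases h with h | h
    · exact ⟨b, by rw [hX, h], h ▸ hab⟩
    · exact ⟨a, by rw [hX, h, Finset.pair_comm], h ▸ hab.symm⟩
  have hχX : χ ∈ D.X := by rw [hX]; simp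
  set f := charDegree (χ : Q → ℂ) with hf
  have hf0 : 0 < f := Blocks.charDegree_pos χ.2
  have hrel : ∀ g, ¬ p ∣ orderOf g →
      (D.s : ℂ) * (ξ : Q → ℂ) g + (1 + (D.a χ : ℂ) * (χ : Q → ℂ) g) = 0 := by
    intro g hg
    have h := D.rel ξ hξY g hg
    rwa [hX, Finset.sum_pair hχt, D.a_triv, show ((Blocks.triv Q : IrrCharacter Q) : Q → ℂ) g = 1
      by simp [Blocks.triv], Int.cast_one, one_mul] at h
  obtain ⟨hs, ha, hfp⟩ : D.s = 1 ∧ D.a χ = -1 ∧ f = p - 1 := by
    have h := hrel 1 hreg1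
    rw [hdeg, Brauer.degree_cast, ← hf] at h
    have hZ : D.s * ((p : ℤ) - 2) + (1 + D.a χ * (f : ℤ)) = 0 := by exact_mod_cast h
    have hY := D.degY ξ hξY
    rw [hYd ξ hξY, Nat.cast_sub (by omega : 2 ≤ p)] at hY
    have hs : D.s = 1 := by
      rcases D.s_or with hs | hs
      · exact hs
      · exfalso
        rw [hs] at hY
        have h1 := Int.modEq_iff_dvd.1 hY
        push_cast at h1
        have h2 : (p : ℤ) ∣ ((4 : ℕ) : ℤ) := by
          have h3 := dvd_add h1 (dvd_refl (p : ℤ))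
          rwa [show (2 : ℤ) - ((p : ℤ) - 2) + p = ((4 : ℕ) : ℤ) by push_cast; ring] at h3
        have := Nat.le_of_dvd (by norm_num) (Int.natCast_dvd_natCast.1 h2)
        omega
    rw [hs] at hZ
    rcases D.a_or χ hχX with ha | ha <;> rw [ha] at hZ
    · omega
    · exact ⟨hs, ha, by omega⟩
  have hperf : commutator Q = ⊤ := by
    have hone : ∀ m : Q →* ℂˣ, m = 1 := by
      intro m
      have hmR : ∀ z ∈ (R : Subgroup Q), m z = 1 := by
        intro z hz
        obtain ⟨g, hg⟩ := hinv z hz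
        have h1 : m z = (m z)⁻¹ := by
          rw [← map_inv, ← hg, map_mul, map_mul, map_inv, mul_comm (m g), mul_inv_cancel_right]
        have h2 : m z ^ 2 = 1 := by rw [pow_two]; exact mul_eq_one_iff_eq_inv.2 h1
        have h3 : m z ^ p = 1 := by
          have h4 : orderOf z ∣ p := by rw [← hS.card]; exact Subgroup.orderOf_dvd_natCard _ hz
          rw [← map_pow, orderOf_dvd_iff_pow_eq_one.1 h4, map_one]
        have h5 := pow_gcd_eq_one.2 ⟨h2, h3⟩
        rwa [show Nat.gcd 2 p = 1 from (Nat.coprime_primes Nat.prime_two hp).2 (by omega),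
          pow_one] at h5
      let θ : IrrCharacter Q := ⟨fun g => (m g : ℂ), Char.isIrrCharacter_hom m⟩
      have hθ1 : charDegree (θ : Q → ℂ) = 1 :=
        Blocks.charDegree_eq (n := 1) (by show ((m 1 : ℂˣ) : ℂ) = _; simp)
      rcases hblock θ ⟨x, hx, hx1, by show ((m x : ℂˣ) : ℂ) ≠ 0; exact Units.ne_zero _⟩ with h | h
      · rw [hX, Finset.mem_insert, Finset.mem_singleton] at h
        rcases h with h | h
        · refine MonoidHom.ext fun g => Units.ext ?_
          have := congrFun (congrArg Subtype.val h) g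
          simpa [θ, Blocks.triv] using this
        · rw [h, ← hf] at hθ1; omega
      · have := hYd θ h; omega
    by_contra hne
    obtain ⟨g, hg⟩ : ∃ g : Q, g ∉ commutator Q := by
      by_contra h
      push Not at h
      exact hne (eq_top_iff.2 fun g _ => h g)
    have hg' : (Abelianization.of g : Abelianization Q) ≠ 1 := fun h =>
      hg ((QuotientGroup.eq_one_iff g).1 h)
    have : HasEnoughRootsOfUnity ℂ (Monoid.exponent (Abelianization Q)) := inferInstance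
    obtain ⟨m, hm⟩ :=
      CommGroup.exists_apply_ne_one_of_hasEnoughRootsOfUnity (Abelianization Q) ℂ hg'
    exact hm (by
      have := congrArg (fun f : Q →* ℂˣ => f g) (hone (m.comp Abelianization.of))
      simpa using this)
  refine ⟨hperf, ?_⟩
  have hfaith : ∀ g : Q, (χ : Q → ℂ) g = (χ : Q → ℂ) 1 → g = 1 := by
    intro g hg
    set W := Char.kerSubgroup (Char.IsIrr.isCharacter χ.2) with hW
    have hgW : g ∈ W := by rw [hW, Char.mem_kerSubgroup]; exact hg
    have : W.Normal := ⟨fun w hw k => by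
      rw [hW, Char.mem_kerSubgroup] at hw ⊢
      rw [Char.isClassFunction_of_isIrr χ.2]
      exact hw⟩
    have hgr : ¬ p ∣ orderOf g := fun h => by
      have h1 : x ∈ W := Brauer.le_of_dvd_card hS.card
        (h.trans (Subgroup.orderOf_dvd_natCard W hgW)) hx
      rw [hW, Char.mem_kerSubgroup, hxv χ hχX x hx hx1, ha, Brauer.degree_cast, ← hf, hfp] at h1
      have h2 : (((p - 1) + 1 : ℕ) : ℂ) = 0 := by push_cast at h1 ⊢; linear_combination -h1
      exact Nat.succ_ne_zero (p - 1) (by exact_mod_cast h2)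
    have h1 := hrel g hgr
    rw [hs, ha, hg, Brauer.degree_cast, ← hf, hfp, Nat.cast_sub hp.one_le] at h1
    refine hξf g ?_
    rw [hdeg]
    push_cast at h1
    linear_combination h1
  obtain ⟨n, v, hn, -, hidx, hCc, hG, -⟩ := Brauer.exists_order hS hnn
  have hv : v = 1 := by
    rw [hC, hS.card] at hCc
    exact ((mul_eq_left₀ hp.ne_zero).1 hCc.symm)
  subst hv
  have hG' : Nat.card Q = p * 2 * (n * p + 1) := by rw [hG]; ring
  have hord := Brauer.order_of_deg_sub_one (by omega) F D hG' hχX ha hfp hYd hfaith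
  have hcard : Nat.card Q = p * ((p - 1) * (p - 2)) := by rw [hG', ← hord]; ring
  have hz : Subgroup.centralizer ({x} : Set Q) = Subgroup.zpowers x := by
    rw [hS.centralizer_eq hx hx1, hC, hS.zpowers_eq hx hx1]
  have hsyl : 2 * Nat.card (Sylow p Q) < (p + 1) * (p + 2) := by
    rw [R.card_eq_index_normalizer, hidx, hord]
    exact Nat.mul_lt_mul_of_lt_of_le' (by omega) (by omega) (by omega) |>.trans_le le_rfl
  rcases Cfsg.Agent.S0996.result hperf p x hxo hz hsyl with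
    ⟨K, iK, iKF, hK, -, ⟨φ⟩⟩ | ⟨m, K, iK, iKF, hK, hpm, -, ⟨φ⟩⟩
  · exfalso
    have h1 := Classical.card_psl_mul (ι := Fin 2) (F := K)
    rw [Classical.card_sl2, Fintype.card_fin, ← Nat.card_congr φ.toEquiv, hcard, hK] at h1
    obtain ⟨q, hq⟩ : ∃ q, p = 2 * q + 1 := hp.odd_of_ne_two (by omega)
    rw [show Nat.gcd 2 (p - 1) = 2 from Nat.gcd_eq_left ⟨q, by omega⟩] at h1
    obtain ⟨r, hr⟩ : ∃ r, p = r + 2 := ⟨p - 2, by omega⟩
    rw [hr, show r + 2 - 1 = r + 1 by omega, show r + 2 - 2 = r by omega,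
      show (r + 2) ^ 2 - 1 = (r + 1) * (r + 3) by
        rw [show (r + 2) ^ 2 = (r + 1) * (r + 3) + 1 by ring, Nat.add_sub_cancel]] at h1
    have h2 : (r + 2) * (r + 1) * (2 * r) = (r + 2) * (r + 1) * (r + 3) := by linarith
    have := Nat.eq_of_mul_eq_mul_left (by positivity) h2
    omega
  · have hm : Even (Fintype.card K) := by
      rw [hK]
      refine Nat.even_pow.2 ⟨even_two, fun h0 => ?_⟩
      rw [h0] at hpm
      omega
    obtain ⟨χ'⟩ := Brauer.nonempty_sl_equiv_psl hm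
    exact ⟨m, K, iK, iKF, hpm, hK, ⟨φ.trans χ'.symm⟩⟩

/-- A homomorphism to an abelian group is determined by a normal subgroup with perfect quotient. -/
theorem mem_of_perfect {G A : Type*} [Group G] [CommGroup A] (Z : Subgroup G) [Z.Normal]
    (hperf : commutator (G ⧸ Z) = ⊤) (l : G →* A) (S : Subgroup A) (hZ : ∀ k ∈ Z, l k ∈ S)
    (g : G) : l g ∈ S :=
  (QuotientGroup.eq_one_iff _).1 (Brauer.hom_eq_one hperf
    (QuotientGroup.lift Z ((QuotientGroup.mk' S).comp l)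
      fun k hk => MonoidHom.mem_ker.2 ((QuotientGroup.eq_one_iff _).2 (hZ k hk)))
    (QuotientGroup.mk g))

/-- Splitting off a subgroup on which a homomorphism to an abelian group is injective. -/
theorem split {G Q A : Type*} [Group G] [Group Q] [CommGroup A] (q : G →* Q)
    (hqs : Function.Surjective q) (K : Subgroup G) (hq1 : ∀ g, q g = 1 ↔ g ∈ K) (l : G →* A)
    (hf : Function.Injective (l.comp K.subtype)) (hrange : ∀ g, l g ∈ (l.comp K.subtype).range) :
    Nonempty (G ≃* Q × K) := by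
  let π : G →* K :=
    (MonoidHom.ofInjective hf).symm.toMonoidHom.comp (l.codRestrict _ hrange)
  have hπ : ∀ k : K, π k = k := fun k => by
    show (MonoidHom.ofInjective hf).symm ⟨l k, _⟩ = k
    rw [MulEquiv.symm_apply_eq]
    exact Subtype.ext rfl
  let Φ : G →* Q × K := q.prod π
  have hΦ : Function.Bijective Φ := by
    refine ⟨(injective_iff_map_eq_one Φ).2 fun g hg => ?_, fun ⟨y, k⟩ => ?_⟩
    · have h1 : q g = 1 := congrArg Prod.fst hg
      have h2 : π g = 1 := congrArg Prod.snd hg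
      have h3 := hπ ⟨g, (hq1 g).1 h1⟩
      exact congrArg Subtype.val (h3.symm.trans h2)
    · obtain ⟨g, rfl⟩ := hqs y
      refine ⟨g * (((π g)⁻¹ * k : K) : G), Prod.ext ?_ ?_⟩
      · show q _ = q g
        rw [map_mul, (hq1 _).2 ((π g)⁻¹ * k).2, mul_one]
      · show π _ = k
        rw [map_mul, hπ, mul_inv_cancel_left]
  exact ⟨MulEquiv.ofBijective Φ hΦ⟩

variable {G : Type u} [Group G] [Fintype G] {P : Sylow p G} {ζ : IrrCharacter G}

namespace Datum

set_option maxHeartbeats 1000000 in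
theorem main (Dt : Datum P ζ) (hnn : ¬ (P : Subgroup G).Normal)
    (hfaith : ∀ g : G, (ζ : G → ℂ) g = (ζ : G → ℂ) 1 → g = 1) :
    ∃ (a : ℕ) (F : Type) (_ : Field F) (_ : Fintype F), p = 2 ^ a + 1 ∧ Fintype.card F = 2 ^ a ∧
      Nonempty (G ≃* Matrix.SpecialLinearGroup (Fin 2) F × Subgroup.center G) := by
  have hp : p.Prime := Fact.out
  have hKZ := Dt.K_eq_center hnn hfaith
  obtain ⟨l, hlK, hlP⟩ := Dt.exists_linear hKZ hfaith
  set Z := Subgroup.center G with hZ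
  set q := QuotientGroup.mk' Z with hq
  have hq1 : ∀ g, q g = 1 ↔ g ∈ Dt.K := fun g => by rw [hKZ]; exact QuotientGroup.eq_one_iff g
  have hqs : Function.Surjective q := QuotientGroup.mk'_surjective Z
  let R : Sylow p (G ⧸ Z) := P.mapSurjective hqs
  have hR : (R : Subgroup (G ⧸ Z)) = (P : Subgroup G).map q := rfl
  have hqe : ∀ g h : G, q g = q h → ∃ k ∈ Dt.K, g = h * k := fun g h e =>
    ⟨h⁻¹ * g, (hq1 _).1 (by rw [map_mul, map_inv, e, inv_mul_cancel]),
      (mul_inv_cancel_left h g).symm⟩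
  have hqP : ∀ t : ZMod p, t ≠ 0 → q (pw Dt.x t) ≠ 1 := fun t ht h => by
    exact (Dt.mem_K.1 ((hq1 _).1 h)).2 (by rw [Dt.orderOf_pw ht])
  have hRmem : ∀ z ∈ (R : Subgroup (G ⧸ Z)), ∃ t : ZMod p, q (pw Dt.x t) = z := by
    intro z hz
    rw [hR] at hz
    obtain ⟨w, hw, rfl⟩ := Subgroup.mem_map.1 hz
    obtain ⟨t, rfl⟩ := Dt.setup.exists_pw Dt.x_mem Dt.x_ord hw
    exact ⟨t, rfl⟩
  have hRt : ∀ t : ZMod p, q (pw Dt.x t) ∈ (R : Subgroup (G ⧸ Z)) := fun t => by
    rw [hR]; exact Subgroup.mem_map_of_mem q (Dt.pw_mem t)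
  have hRc : Nat.card (R : Subgroup (G ⧸ Z)) = p := by
    refine Eq.trans ?_ (Nat.card_zmod p)
    refine (Nat.card_congr (Equiv.ofBijective (fun t : ZMod p =>
      (⟨q (pw Dt.x t), hRt t⟩ : (R : Subgroup (G ⧸ Z)))) ⟨fun s t h => ?_, fun z => ?_⟩)).symm
    · by_contra hne
      refine hqP (s - t) (sub_ne_zero.2 hne) ?_
      have h' : q (pw Dt.x s) = q (pw Dt.x t) := congrArg Subtype.val h
      have e : pw Dt.x (s - t) * pw Dt.x t = pw Dt.x s := by
        rw [← pw_add Dt.x_ord, sub_add_cancel]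
      have e2 := congrArg q e
      rw [map_mul, h'] at e2
      exact mul_eq_right.1 e2
    · obtain ⟨t, ht⟩ := hRmem z z.2
      exact ⟨t, Subtype.ext ht⟩
  have h1p : (1 : ZMod p) ≠ 0 := one_ne_zero
  -- conjugation of `z` modulo the centre
  have hconj : ∀ (g : G) (t : ZMod p), t ≠ 0 → q (g * pw Dt.x (1 : ZMod p) * g⁻¹) = q (pw Dt.x t) →
      g * pw Dt.x (1 : ZMod p) * g⁻¹ = pw Dt.x t := by
    intro g t ht h
    obtain ⟨k, hk, e⟩ := hqe _ _ h
    have h1 : Blocks.pPartOf p (g * pw Dt.x (1 : ZMod p) * g⁻¹) =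
        g * pw Dt.x (1 : ZMod p) * g⁻¹ := by
      have h2 := (Dt.parts h1p (one_mem Dt.K)).1
      rw [mul_one] at h2
      rw [Blocks.pPartOf_conj, h2]
    rw [← h1, e, (Dt.parts ht hk).1]
  have hC : Subgroup.centralizer (R : Set (G ⧸ Z)) = (R : Subgroup (G ⧸ Z)) := by
    refine le_antisymm (fun y hy => ?_) fun y hy => ?_
    · obtain ⟨g, rfl⟩ := hqs y
      have h := Subgroup.mem_centralizer_iff.1 hy _ (hRt 1)
      have h2 : q (g * pw Dt.x (1 : ZMod p) * g⁻¹) = q (pw Dt.x (1 : ZMod p)) := by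
        rw [map_mul, map_mul, map_inv, ← h, mul_inv_cancel_right]
      have hgC : g ∈ Subgroup.centralizer (P : Set G) := by
        rw [← Dt.setup.centralizer_eq (Dt.pw_mem 1) (Dt.pw_ne h1p),
          Subgroup.mem_centralizer_singleton_iff]
        exact mul_inv_eq_iff_eq_mul.1 (hconj g 1 h1p h2)
      obtain ⟨a, ha, b, hb, rfl⟩ := Dt.C_dec hgC
      rw [map_mul, (hq1 b).2 hb, one_mul, hR]
      exact Subgroup.mem_map_of_mem q ha
    · refine Subgroup.mem_centralizer_iff.2 fun z hz => ?_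
      obtain ⟨s, rfl⟩ := hRmem y hy
      obtain ⟨t, rfl⟩ := hRmem z hz
      rw [← map_mul, ← map_mul, ← pw_add Dt.x_ord, ← pw_add Dt.x_ord, add_comm]
  have hinv : ∀ z ∈ (R : Subgroup (G ⧸ Z)), ∃ g, g * z * g⁻¹ = z⁻¹ := by
    intro z hz
    obtain ⟨t, rfl⟩ := hRmem z hz
    refine ⟨q Dt.a, ?_⟩
    rw [← map_inv, ← map_mul, ← map_mul, Dt.a_inv, ← map_inv]
    congr 1
    refine eq_inv_of_mul_eq_one_left ?_
    rw [← pw_add Dt.x_ord, neg_add_cancel, Dt.pw_zero]
  have hnormal : ∀ g : G, q g ∈ Subgroup.normalizer (R : Set (G ⧸ Z)) →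
      g ∈ Subgroup.normalizer (P : Set G) := by
    intro g hg
    have hz : q g * q (pw Dt.x (1 : ZMod p)) * (q g)⁻¹ ∈ (R : Subgroup (G ⧸ Z)) :=
      (Subgroup.mem_normalizer_iff.1 hg _).1 (hRt 1)
    obtain ⟨t, ht⟩ := hRmem _ hz
    have ht0 : t ≠ 0 := fun h0 => hqP 1 h1p (by
      rw [h0, Dt.pw_zero, map_one, eq_comm, conj_eq_one_iff] at ht
      exact ht)
    refine inv_mem_iff.1 (Dt.setup.mem_normalizer (Dt.pw_mem 1) (Dt.pw_ne h1p) ?_)
    rw [inv_inv, hconj g t ht0 (by rw [map_mul, map_mul, map_inv, ht])]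
    exact Dt.pw_mem t
  have haN : q Dt.a ∈ Subgroup.normalizer (R : Set (G ⧸ Z)) := by
    obtain ⟨e', he'⟩ : ∃ e', Setup R e' := ⟨_, hRc, rfl⟩
    refine inv_mem_iff.1 (he'.mem_normalizer (hRt 1) (hqP 1 h1p) ?_)
    rw [inv_inv, ← map_inv, ← map_mul, ← map_mul, Dt.a_inv]
    exact hRt _
  have haC : q Dt.a ∉ Subgroup.centralizer (R : Set (G ⧸ Z)) := fun h => by
    have h1 := Subgroup.mem_centralizer_iff.1 h _ (hRt 1)
    have h2 : q (Dt.a * pw Dt.x (1 : ZMod p) * Dt.a⁻¹) = q (pw Dt.x (1 : ZMod p)) := by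
      rw [map_mul, map_mul, map_inv, ← h1, mul_inv_cancel_right]
    have h3 := hconj Dt.a 1 h1p h2
    rw [Dt.a_inv] at h3
    exact Dt.ne_neg h1p (pw_injective Dt.x_ord h3).symm
  have hS : Setup R 2 := by
    refine ⟨hRc, ?_⟩
    show ((Subgroup.centralizer (R : Set (G ⧸ Z))).subgroupOf
      (Subgroup.normalizer (R : Set (G ⧸ Z)))).index = 2
    refine Subgroup.index_eq_two_iff.2 ⟨⟨q Dt.a, haN⟩⁻¹, fun b => ?_⟩
    obtain ⟨g, hg⟩ := hqs (b : G ⧸ Z)
    have hgN := hnormal g (hg ▸ b.2)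
    have hsub : ∀ c ∈ Subgroup.centralizer (P : Set G),
        q c ∈ Subgroup.centralizer (R : Set (G ⧸ Z)) := by
      intro c hc
      refine Subgroup.mem_centralizer_iff.2 fun z hz => ?_
      obtain ⟨t, rfl⟩ := hRmem z hz
      rw [← map_mul, ← map_mul, Subgroup.mem_centralizer_iff.1 hc _ (Dt.pw_mem t)]
    simp only [Subgroup.mem_subgroupOf, Subgroup.coe_mul, Subgroup.coe_inv]
    rw [← hg]
    rcases Dt.a_cases g hgN with h | h
    · exact Or.inr ⟨hsub g h, fun h2 => haC (by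
        have h3 := mul_mem (inv_mem (hsub g h)) h2
        rw [inv_mul_cancel_left] at h3
        exact inv_mem_iff.1 h3)⟩
    · have h2 := hsub _ h
      rw [map_mul, map_inv] at h2
      exact Or.inl ⟨h2, fun h1 => haC (by
        have h4 := mul_mem (inv_mem h1) h2
        rw [inv_mul_cancel_left] at h4
        exact inv_mem_iff.1 h4)⟩
  have hRnn : ¬ (R : Subgroup (G ⧸ Z)).Normal := fun h => hnn (Subgroup.normalizer_eq_top_iff.1
    (eq_top_iff.2 fun g _ => hnormal g (by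
      have h2 : Subgroup.normalizer (R : Set (G ⧸ Z)) = ⊤ := Subgroup.normalizer_eq_top_iff.2 h
      rw [h2]; exact Subgroup.mem_top _)))
  -- the character
  let l' : G →* ℂˣ := l⁻¹
  have hξirr : IsIrrCharacter G (fun g => (ζ : G → ℂ) g * (l' g : ℂ)) :=
    Char.isIrr_mul_hom ζ.2 l'
  have hl' : ∀ g, (l' g : ℂ) = ((l g : ℂ))⁻¹ := fun g => by simp [l']
  have hker : ∀ k ∈ Z, (ζ : G → ℂ) k * (l' k : ℂ) = (ζ : G → ℂ) 1 * (l' 1 : ℂ) := by
    intro k hk
    rw [← hKZ] at hk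
    rw [← one_mul k, Dt.ζ_central hKZ 1 hk, one_mul, hl', hl', map_one, Units.val_one, inv_one,
      mul_one, ← hlK k hk, mul_assoc, mul_inv_cancel₀ (Units.ne_zero _), mul_one]
  obtain ⟨φ, hφ, hφv⟩ := Char.IsIrr.exists_quotient Z hξirr hker
  have hdeg : φ 1 = (p : ℂ) - 2 := by
    have h := hφv 1
    rw [QuotientGroup.mk_one, hl', map_one, Units.val_one, inv_one, mul_one, Dt.deg] at h
    exact h.symm
  have hξf : ∀ y : G ⧸ Z, φ y = φ 1 → y = 1 := by
    intro y hy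
    obtain ⟨g, rfl⟩ := hqs y
    obtain ⟨d, ρ, -, hρ⟩ := ζ.2
    have hn : ‖(l' g : ℂ)‖ = 1 := Complex.norm_eq_one_of_pow_eq_one (n := Nat.card G)
      (by rw [← Units.val_pow_eq_pow_val, ← map_pow, pow_card_eq_one', map_one, Units.val_one])
      Nat.card_pos.ne'
    have hrank : ((Module.finrank ℂ (Fin d → ℂ) : ℕ) : ℂ) = (p : ℂ) - 2 := by
      rw [← Dt.deg, ← hρ, ρ.char_one]
    have h := hφv g
    rw [show ((g : G) : G ⧸ Z) = q g from rfl, hy, hdeg, ← hrank] at h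
    obtain ⟨ω, hω, -⟩ := Char.scalar_of_norm_character_eq ρ g (by
      have h2 := congrArg norm h
      rw [norm_mul, hn, mul_one, Complex.norm_natCast] at h2
      rw [hρ]; exact h2)
    refine (hq1 g).2 (hKZ ▸ Subgroup.mem_center_iff.2 fun g' => ?_)
    have h3 : g' * g * (g * g')⁻¹ = 1 := hfaith _ (by
      rw [← hρ]
      show LinearMap.trace ℂ _ (ρ (g' * g * (g * g')⁻¹)) = LinearMap.trace ℂ _ (ρ 1)
      have h4 : ρ (g' * g) = ρ (g * g') := by
        rw [map_mul, map_mul, hω, smul_mul_assoc, mul_smul_comm]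
        exact congrArg (ω • ·) ((mul_one (ρ g')).trans (one_mul (ρ g')).symm)
      rw [map_mul, h4, ← map_mul, mul_inv_cancel])
    exact mul_inv_eq_one.1 h3
  have hnc : ¬ ∃ c : ℂ, ∀ z ∈ (R : Subgroup (G ⧸ Z)), z ≠ 1 → φ z = c := by
    rintro ⟨c, hc⟩
    have hv : ∀ t : ZMod p, t ≠ 0 → -psi p (Dt.i * t) - psi p (-(Dt.i * t)) = c := by
      intro t ht
      have h := hc _ (hRt t) (hqP t ht)
      rw [show φ (q (pw Dt.x t)) = _ from (hφv (pw Dt.x t)).symm, hl', hlP t, inv_one, mul_one] at h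
      have h2 := Dt.val_one_line (t := t) (one_mem Dt.K)
      rw [mul_one, h, Dt.lin_j.one, if_neg ht] at h2
      linear_combination -h2
    set g : ZMod p → ℂ := fun t => -psi p (Dt.i * t) - psi p (-(Dt.i * t)) with hg
    have hsum : ∑ t, g t = 0 := by
      simp only [hg, Finset.sum_sub_distrib, Finset.sum_neg_distrib, ← neg_mul, Dt.sum_psi_pm Dt.i_ne,
        Dt.sum_psi_pm (neg_ne_zero.2 Dt.i_ne)]
      ring
    have hsum2 : ∑ t, g t * psi p (-(Dt.i * t)) = -(p : ℂ) := by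
      have h0 : ∑ t : ZMod p, psi p (-(Dt.i * t) + -(Dt.i * t)) = 0 := by
        simp only [← neg_add, ← add_mul, ← neg_mul]
        exact Dt.sum_psi_pm (fun e => Dt.ne_neg Dt.i_ne (by
          exact eq_neg_of_add_eq_zero_left (neg_eq_zero.1 e)))
      simp only [hg, sub_mul, neg_mul, ← AddChar.map_add_eq_mul, add_neg_cancel,
        AddChar.map_zero_eq_one, Finset.sum_sub_distrib, Finset.sum_neg_distrib, Finset.sum_const,
        Finset.card_univ, ZMod.card, nsmul_eq_mul, mul_one, h0, sub_zero]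
    rw [Dt.sum_t g c hv] at hsum
    have hz : ∀ t, t ≠ 0 → g t * psi p (-(Dt.i * t)) = c * psi p (-(Dt.i * t)) := fun t ht => by
      rw [show g t = c from hv t ht]
    rw [← Finset.add_sum_erase _ _ (Finset.mem_univ (0 : ZMod p)),
      Finset.sum_congr rfl (fun t ht => hz t (Finset.mem_erase.1 ht).1), ← Finset.mul_sum,
      Finset.sum_erase_eq_sub (Finset.mem_univ _)] at hsum2
    have h0 : ∑ t : ZMod p, psi p (-(Dt.i * t)) = 0 := by
      simp only [← neg_mul]; exact Dt.sum_psi_pm (neg_ne_zero.2 Dt.i_ne)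
    simp only [hg, mul_zero, neg_zero, AddChar.map_zero_eq_one, mul_one, h0] at hsum hsum2
    have hc2 : c = (p : ℂ) - 2 := by linear_combination -hsum2
    have h7 : (((p - 1) * (p - 2) : ℕ) : ℂ) = ((2 : ℕ) : ℂ) := by
      have := Dt.seven_le
      push_cast [Nat.cast_sub (show 1 ≤ p by omega), Nat.cast_sub (show 2 ≤ p by omega)]
      rw [hc2] at hsum
      linear_combination hsum
    have h8 : (p - 1) * (p - 2) = 2 := by exact_mod_cast h7
    have := Dt.seven_le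
    have := Nat.mul_le_mul (show 6 ≤ p - 1 by omega) (show 5 ≤ p - 2 by omega)
    omega
  obtain ⟨hperf, a, F, iF, iFF, hpa, hF, ⟨e⟩⟩ :=
    core Dt.seven_le hS hC hRnn hinv ⟨φ, hφ⟩ hdeg hnc hξf
  refine ⟨a, F, iF, iFF, hpa, hF, ?_⟩
  -- splitting off the centre
  let f : Dt.K →* ℂˣ := l.comp Dt.K.subtype
  have hf : Function.Injective f := by
    rw [injective_iff_map_eq_one]
    intro k hk
    refine Subtype.ext (Dt.lam_eq_one hKZ hfaith k.2 ?_)
    rw [← hlK k k.2]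
    exact congrArg Units.val hk
  have hrange : ∀ g, l g ∈ f.range := mem_of_perfect Z hperf l f.range fun k hk =>
    ⟨⟨k, by rw [hKZ]; exact hk⟩, rfl⟩
  obtain ⟨Φ⟩ := split q hqs Dt.K hq1 l hf hrange
  exact ⟨Φ.trans (MulEquiv.prodCongr e (MulEquiv.subgroupCongr hKZ))⟩

end Datum

end Cfsg.Agent.Fg24.SmallDeg
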