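import Cfsg.Agent.Fg24.SmallDeg.Line
import Cfsg.Agent.Char.Linear
import Cfsg.Agent.Char.Galois

/-!
# Faithful characters of degree `p - 2`: the centralizer acts by scalars on the nontrivial lines
-/

set_option autoImplicit false
set_option linter.unusedSectionVars false

open Cfsg
open scoped ComplexConjugate Classical

namespace Cfsg.Agent.Fg24.SmallDeg

open Cfsg.Agent.BlockThms.OrderP

universe u

variable {G : Type u} [Group G] [Fintype G] {p : ℕ} [Fact p.Prime] {P : Sylow p G}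
  {ζ : IrrCharacter G} (Dt : Datum P ζ)

theorem exists_avoid (S : Finset (ZMod p)) (hS : S.card < p) : ∃ s, s ∉ S := by
  by_contra h
  push Not at h
  have := Finset.card_le_card (fun s _ => h s : (Finset.univ : Finset (ZMod p)) ⊆ S)
  rw [Finset.card_univ, ZMod.card] at this
  omega

namespace Datum

include Dt

/-- The `p'`-part of the centralizer. -/
noncomputable def K : Subgroup G := Dt.setup.exists_complement.choose

theorem K_le : Dt.K ≤ Subgroup.centralizer (P : Set G) :=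
  Dt.setup.exists_complement.choose_spec.1

theorem K_reg : ¬ p ∣ Nat.card Dt.K := Dt.setup.exists_complement.choose_spec.2.1

theorem mem_K {c : G} : c ∈ Dt.K ↔ c ∈ Subgroup.centralizer (P : Set G) ∧ ¬ p ∣ orderOf c :=
  Dt.setup.exists_complement.choose_spec.2.2.1 c

theorem K_conj {n c : G} (hn : n ∈ Subgroup.normalizer (P : Set G)) (hc : c ∈ Dt.K) :
    n * c * n⁻¹ ∈ Dt.K :=
  Dt.setup.exists_complement.choose_spec.2.2.2.1 n hn c hc

theorem card_C : Nat.card (Subgroup.centralizer (P : Set G)) = p * Nat.card Dt.K :=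
  Dt.setup.exists_complement.choose_spec.2.2.2.2.1

theorem C_dec {c : G} (hc : c ∈ Subgroup.centralizer (P : Set G)) :
    ∃ a ∈ (P : Subgroup G), ∃ b ∈ Dt.K, c = b * a :=
  Dt.setup.exists_complement.choose_spec.2.2.2.2.2 c hc

theorem pw_mem (t : ZMod p) : pw Dt.x t ∈ (P : Subgroup G) := pow_mem Dt.x_mem _

theorem pw_memC (t : ZMod p) : pw Dt.x t ∈ Subgroup.centralizer (P : Set G) :=
  Dt.setup.le_centralizer (Dt.pw_mem t)

theorem pw_zero : pw Dt.x (0 : ZMod p) = 1 := by simp [pw]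

theorem pw_ne {t : ZMod p} (ht : t ≠ 0) : pw Dt.x t ≠ 1 := fun h =>
  ht (pw_injective Dt.x_ord (h.trans Dt.pw_zero.symm))

theorem pw_comm (t : ZMod p) {c : G} (hc : c ∈ Subgroup.centralizer (P : Set G)) :
    Commute (pw Dt.x t) c := Subgroup.mem_centralizer_iff.1 hc _ (Dt.pw_mem t)

theorem pw_pow (t : ZMod p) (k : ℕ) : pw Dt.x t ^ k = pw Dt.x ((k : ZMod p) * t) := by
  rw [pw, ← pow_mul, ← pw_natCast Dt.x_ord, Nat.cast_mul, ZMod.natCast_zmod_val, mul_comm]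

theorem orderOf_pw {t : ZMod p} (ht : t ≠ 0) : orderOf (pw Dt.x t) = p := by
  rw [← Nat.card_zpowers, Dt.setup.zpowers_eq (Dt.pw_mem t) (Dt.pw_ne ht), Dt.setup.card]

theorem parts {t : ZMod p} (ht : t ≠ 0) {c : G} (hc : c ∈ Dt.K) :
    Blocks.pPartOf p (pw Dt.x t * c) = pw Dt.x t ∧ p ∣ orderOf (pw Dt.x t * c) := by
  have hp : p.Prime := Fact.out
  have h : Blocks.pPartOf p (pw Dt.x t * c) = pw Dt.x t :=
    (Blocks.parts_mul hp (Dt.pw_comm t (Dt.K_le hc)) (exists_orderOf_pow (Dt.pw_mem t))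
      (Dt.mem_K.1 hc).2).1
  exact ⟨h, by_contra fun hd => Dt.pw_ne ht (h ▸ (Blocks.pPartOf_eq_one_iff hp _).2 hd)⟩

/-- Conjugate elements `z k`, `z k'` are equal. -/
theorem pw_isConj {t : ZMod p} (ht : t ≠ 0) {k k' : G} (hk : k ∈ Dt.K) (hk' : k' ∈ Dt.K) :
    IsConj (pw Dt.x t * k) (pw Dt.x t * k') ↔ k = k' := by
  refine ⟨fun h => ?_, fun h => h ▸ IsConj.refl _⟩
  obtain ⟨g, hg⟩ := isConj_iff.1 h
  have h1 : g * pw Dt.x t * g⁻¹ = pw Dt.x t := by
    rw [← (Dt.parts ht hk).1, ← Blocks.pPartOf_conj (p := p), hg, (Dt.parts ht hk').1,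
      (Dt.parts ht hk).1]
  have hgC : g ∈ Subgroup.centralizer (P : Set G) := by
    rw [← Dt.setup.centralizer_eq (Dt.pw_mem t) (Dt.pw_ne ht),
      Subgroup.mem_centralizer_singleton_iff]
    exact mul_inv_eq_iff_eq_mul.1 h1
  rw [Dt.comm g hgC _ (mul_mem (Dt.pw_memC t) (Dt.K_le hk)), mul_inv_cancel_right] at hg
  exact mul_left_cancel hg

theorem card_centralizer {t : ZMod p} (ht : t ≠ 0) {k : G} (hk : k ∈ Dt.K) :
    Nat.card (Subgroup.centralizer ({pw Dt.x t * k} : Set G)) = p * Nat.card Dt.K := by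
  rw [← Dt.card_C]
  congr 1
  have hcC : pw Dt.x t * k ∈ Subgroup.centralizer (P : Set G) :=
    mul_mem (Dt.pw_memC t) (Dt.K_le hk)
  have : Subgroup.centralizer ({pw Dt.x t * k} : Set G) = Subgroup.centralizer (P : Set G) := by
    refine le_antisymm (fun g hg => ?_) fun g hg =>
      Subgroup.mem_centralizer_singleton_iff.2 (Dt.comm g hg _ hcC)
    have h : g * (pw Dt.x t * k) * g⁻¹ = pw Dt.x t * k :=
      mul_inv_eq_iff_eq_mul.2 (Subgroup.mem_centralizer_singleton_iff.1 hg)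
    rw [← Dt.setup.centralizer_eq (Dt.pw_mem t) (Dt.pw_ne ht),
      Subgroup.mem_centralizer_singleton_iff]
    refine mul_inv_eq_iff_eq_mul.1 ?_
    rw [← (Dt.parts ht hk).1, ← Blocks.pPartOf_conj (p := p), h]
  rw [this]

theorem exists_exp {u : ZMod p} (hu : u ≠ 0) :
    ∃ k : ℕ, k.Coprime (Nat.card G) ∧ (k : ZMod p) = u ∧
      ∀ g : G, ¬ p ∣ orderOf g → g ^ k = g := by
  have hp : p.Prime := Fact.out
  obtain ⟨m, hm⟩ : p ∣ Nat.card G := Dt.setup.card ▸ (P : Subgroup G).card_subgroup_dvd_card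
  have hpm : ¬ p ∣ m := fun h => by
    have h2 : p ^ 2 ∣ Nat.card G := by rw [hm, sq]; exact mul_dvd_mul_left p h
    rw [hp.pow_dvd_iff_le_factorization Nat.card_pos.ne', Dt.setup.factorization.2] at h2
    omega
  have hcop : p.Coprime m := hp.coprime_iff_not_dvd.2 hpm
  obtain ⟨k, hk1, hk2⟩ := Nat.chineseRemainder hcop u.val 1
  have hku : (k : ZMod p) = u := by
    rw [(ZMod.natCast_eq_natCast_iff _ _ _).2 hk1, ZMod.natCast_zmod_val]
  refine ⟨k, ?_, hku, fun g hg => ?_⟩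
  · rw [hm]
    refine Nat.Coprime.mul_right ?_ ?_
    · rw [Nat.coprime_comm, hp.coprime_iff_not_dvd]
      intro h
      rw [← ZMod.natCast_eq_zero_iff, hku] at h
      exact hu h
    · rw [Nat.coprime_iff_gcd_eq_one, hk2.gcd_eq, Nat.gcd_one_left]
  · have hd : orderOf g ∣ m := ((hp.coprime_iff_not_dvd.2 hg).symm).dvd_of_dvd_mul_left
      (hm ▸ orderOf_dvd_natCard g)
    rw [show g ^ k = g ^ 1 from pow_eq_pow_iff_modEq.2 (hk2.of_dvd hd), pow_one]

/-- The algebraic conjugates of `ζ`. -/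
noncomputable def conjIrr (u : ZMod p) : IrrCharacter G :=
  if h : u ≠ 0 then ⟨_, Char.isIrr_comp_pow _ (Dt.exists_exp h).choose_spec.1 ζ.2⟩ else ζ

theorem conjIrr_reg (u : ZMod p) {g : G} (hg : ¬ p ∣ orderOf g) :
    (Dt.conjIrr u : G → ℂ) g = (ζ : G → ℂ) g := by
  by_cases h : u = 0
  · rw [conjIrr, dif_neg (not_not.2 h)]
  · rw [conjIrr, dif_pos h]
    show (ζ : G → ℂ) (g ^ _) = _
    rw [(Dt.exists_exp h).choose_spec.2.2 g hg]

theorem conjIrr_one (u : ZMod p) : (Dt.conjIrr u : G → ℂ) 1 = (p : ℂ) - 2 := by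
  rw [Dt.conjIrr_reg u (by rw [orderOf_one]; exact (Fact.out : p.Prime).not_dvd_one), Dt.deg]

theorem conjIrr_val {u : ZMod p} (hu : u ≠ 0) (t : ZMod p) {c : G} (hc : c ∈ Dt.K) :
    (Dt.conjIrr u : G → ℂ) (pw Dt.x t * c) = ∑ s, Dt.θ (u⁻¹ * s) c * psi p (s * t) := by
  rw [conjIrr, dif_pos hu]
  show (ζ : G → ℂ) ((pw Dt.x t * c) ^ _) = _
  obtain ⟨-, hk, hreg⟩ := (Dt.exists_exp hu).choose_spec
  rw [(Dt.pw_comm t (Dt.K_le hc)).mul_pow, hreg c (Dt.mem_K.1 hc).2, Dt.pw_pow, hk,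
    Dt.val _ c (Dt.K_le hc)]
  refine Fintype.sum_equiv (Equiv.mulLeft₀ u hu) _ _ fun r => ?_
  show Dt.θ r c * psi p (r * (u * t)) = Dt.θ (u⁻¹ * (u * r)) c * psi p (u * r * t)
  rw [inv_mul_cancel_left₀ hu]
  ring_nf

/-- Inner products of functions vanishing on regular elements. -/
theorem sum_singular {φ : G → ℂ} (hφ : IsClassFunction G φ)
    (h0 : ∀ g, ¬ p ∣ orderOf g → φ g = 0) :
    2 * (p : ℂ) * (Nat.card Dt.K : ℂ) * ∑ g, φ g =
      (Nat.card G : ℂ) * ∑ t : ZMod p, ∑ k : Dt.K, φ (pw Dt.x t * k) := by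
  have hp : p.Prime := Fact.out
  set I : G → ℂ := fun g => if g = 1 then 0 else 1 with hI
  have hA : Adm P I := ⟨if_pos rfl, fun c _ w _ => by simp only [hI, conj_eq_one_iff]⟩
  have h1 := Dt.setup.sum_lift hA hφ
  have hl : ∀ g, lift P I g * φ g = φ g := by
    intro g
    by_cases h : p ∣ orderOf g
    · obtain ⟨c, hc⟩ := exists_conj_mem P (Blocks.orderOf_pPartOf hp g)
      rw [Dt.setup.lift_apply hA hc (isConj_iff.2 ⟨c, rfl⟩)]
      simp only [hI]
      rw [if_neg fun h1 => ?_, one_mul]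
      rw [conj_eq_one_iff, Blocks.pPartOf_eq_one_iff hp] at h1
      exact h1 h
    · rw [h0 g h, mul_zero]
  rw [Finset.sum_congr rfl fun g _ => hl g] at h1
  have hKne : (Nat.card Dt.K : ℂ) ≠ 0 := Nat.cast_ne_zero.2 Nat.card_pos.ne'
  have h2 : (Nat.card Dt.K : ℂ) * ∑ w : (P : Subgroup G), I w * avg p φ w =
      ∑ t : ZMod p, ∑ k : Dt.K, φ (pw Dt.x t * k) := by
    rw [Finset.mul_sum]
    symm
    refine Fintype.sum_bijective (fun t => (⟨pw Dt.x t, Dt.pw_mem t⟩ : (P : Subgroup G)))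
      ⟨fun t t' h => pw_injective Dt.x_ord (congrArg Subtype.val h), fun w => by
        obtain ⟨t, ht⟩ := Dt.setup.exists_pw Dt.x_mem Dt.x_ord w.2
        exact ⟨t, Subtype.ext ht⟩⟩ _ _ fun t => ?_
    by_cases ht : t = 0
    · subst ht
      simp only [Dt.pw_zero, hI, if_true, zero_mul, mul_zero]
      exact Finset.sum_eq_zero fun k _ => by rw [one_mul, h0 _ (Dt.mem_K.1 k.2).2]
    · simp only [hI, if_neg (Dt.pw_ne ht), one_mul]
      have hf : ((fiber p (pw Dt.x t)).card : ℂ) = (Nat.card Dt.K : ℂ) := by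
        have h := Dt.setup.card_fiber (Dt.pw_mem t) (Dt.pw_ne ht)
        rw [Dt.setup.centralizer_eq (Dt.pw_mem t) (Dt.pw_ne ht), Dt.card_C, mul_comm p] at h
        rw [Nat.eq_of_mul_eq_mul_right hp.pos h]
      rw [avg, hf, mul_inv_cancel_left₀ hKne]
      refine Finset.sum_bij (fun k _ => pw Dt.x t * (k : G)) (fun k _ => ?_) (fun k _ k' _ h => ?_)
        (fun g hg => ?_) fun k _ => rfl
      · exact mem_fiber.2 (Dt.parts ht k.2).1
      · exact Subtype.ext (mul_left_cancel h)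
      · have hg' := mem_fiber.1 hg
        refine ⟨⟨Blocks.pPrimePartOf p g, Dt.mem_K.2 ⟨?_, Blocks.not_dvd_orderOf_pPrimePartOf hp g⟩⟩,
          Finset.mem_univ _, ?_⟩
        · rw [← Dt.setup.centralizer_eq (Dt.pw_mem t) (Dt.pw_ne ht),
            Subgroup.mem_centralizer_singleton_iff]
          have h := (Blocks.commute_pPartOf_pPrimePartOf (p := p) g).eq
          rw [hg'] at h
          exact h.symm
        · show pw Dt.x t * Blocks.pPrimePartOf p g = g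
          rw [← hg']
          exact Blocks.pPartOf_mul_pPrimePartOf hp g
  rw [← h2]
  push_cast at h1
  linear_combination (Nat.card Dt.K : ℂ) * h1

theorem classInner_singular {φ ψ : G → ℂ} (hφ : IsClassFunction G φ) (hψ : IsClassFunction G ψ)
    (h0 : ∀ g, ¬ p ∣ orderOf g → ψ g = 0) :
    2 * (p : ℂ) * (Nat.card Dt.K : ℂ) * classInner φ ψ =
      ∑ t : ZMod p, ∑ k : Dt.K, φ (pw Dt.x t * k) * conj (ψ (pw Dt.x t * k)) := by
  have h := Dt.sum_singular (φ := fun g => φ g * conj (ψ g))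
    (fun g k => by simp only [hφ g k, hψ g k]) (fun g hg => by rw [h0 g hg, map_zero, mul_zero])
  rw [classInner, mul_left_comm, h, inv_mul_cancel_left₀ Char.card_ne_zero]

theorem isClassFunction_sub (u v : ZMod p) :
    IsClassFunction G (fun g => (Dt.conjIrr u : G → ℂ) g - (Dt.conjIrr v : G → ℂ) g) := fun g k => by
  simp only [Char.isClassFunction_of_isIrr (Dt.conjIrr u).2 g k,
    Char.isClassFunction_of_isIrr (Dt.conjIrr v).2 g k]

theorem sub_reg (u v : ZMod p) {g : G} (hg : ¬ p ∣ orderOf g) :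
    (Dt.conjIrr u : G → ℂ) g - (Dt.conjIrr v : G → ℂ) g = 0 := by
  rw [Dt.conjIrr_reg u hg, Dt.conjIrr_reg v hg, sub_self]

theorem sub_val {u v : ZMod p} (hu : u ≠ 0) (hv : v ≠ 0) (t : ZMod p) {c : G} (hc : c ∈ Dt.K) :
    (Dt.conjIrr u : G → ℂ) (pw Dt.x t * c) - (Dt.conjIrr v : G → ℂ) (pw Dt.x t * c) =
      ∑ s, (Dt.θ (u⁻¹ * s) c - Dt.θ (v⁻¹ * s) c) * psi p (s * t) := by
  rw [Dt.conjIrr_val hu t hc, Dt.conjIrr_val hv t hc, ← Finset.sum_sub_distrib]
  exact Finset.sum_congr rfl fun s _ => by ring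

/-- The norm of a difference of two conjugates. -/
theorem norm_sub {u v : ZMod p} (hu : u ≠ 0) (hv : v ≠ 0) :
    ∑ s : ZMod p, ∑ k : Dt.K, Complex.normSq (Dt.θ (u⁻¹ * s) k - Dt.θ (v⁻¹ * s) k) =
      if Dt.conjIrr u = Dt.conjIrr v then 0 else 4 * (Nat.card Dt.K : ℝ) := by
  set ψ : G → ℂ := fun g => (Dt.conjIrr u : G → ℂ) g - (Dt.conjIrr v : G → ℂ) g with hψ
  have h := Dt.classInner_singular (Dt.isClassFunction_sub u v) (Dt.isClassFunction_sub u v)
    (fun g hg => Dt.sub_reg u v hg)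
  have hin : classInner ψ ψ = if Dt.conjIrr u = Dt.conjIrr v then 0 else 2 := by
    rw [show ψ = (Dt.conjIrr u : G → ℂ) - (Dt.conjIrr v : G → ℂ) from rfl,
      Char.classInner_sub_left, Char.classInner_sub_right, Char.classInner_sub_right,
      Char.classInner_irrChar, Char.classInner_irrChar, Char.classInner_irrChar,
      Char.classInner_irrChar, if_pos rfl, if_pos rfl]
    by_cases hq : Dt.conjIrr u = Dt.conjIrr v
    · rw [if_pos hq, if_pos hq, if_pos hq.symm]; ring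
    · rw [if_neg hq, if_neg hq, if_neg (Ne.symm hq)]; ring
  rw [hin] at h
  have h2 : ∑ t : ZMod p, ∑ k : Dt.K, ψ (pw Dt.x t * k) * conj (ψ (pw Dt.x t * k)) =
      (p : ℂ) * ((∑ s : ZMod p, ∑ k : Dt.K,
        Complex.normSq (Dt.θ (u⁻¹ * s) k - Dt.θ (v⁻¹ * s) k) : ℝ) : ℂ) := by
    rw [Finset.sum_comm, Finset.sum_congr rfl (fun (k : Dt.K) _ => Finset.sum_congr rfl
      (g := fun t => (∑ s, (Dt.θ (u⁻¹ * s) k - Dt.θ (v⁻¹ * s) k) * psi p (s * t)) *
        conj (∑ s, (Dt.θ (u⁻¹ * s) k - Dt.θ (v⁻¹ * s) k) * psi p (s * t)))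
      (fun t _ => by simp only [hψ, Dt.sub_val hu hv t k.2])),
      Finset.sum_congr rfl (fun (k : Dt.K) _ => parseval _ _), ← Finset.mul_sum, Finset.sum_comm]
    congr 1
    simp only [Complex.mul_conj]
    push_cast
    rfl
  rw [hψ] at h2
  rw [h2] at h
  have hp : (p : ℂ) ≠ 0 := Nat.cast_ne_zero.2 (Fact.out : p.Prime).ne_zero
  split_ifs at h ⊢ with hq
  · rw [mul_zero, eq_comm, mul_eq_zero] at h
    exact_mod_cast h.resolve_left hp
  · have h3 : (4 * (Nat.card Dt.K : ℂ)) = ((∑ s : ZMod p, ∑ k : Dt.K,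
        Complex.normSq (Dt.θ (u⁻¹ * s) k - Dt.θ (v⁻¹ * s) k) : ℝ) : ℂ) := by
      refine mul_left_cancel₀ hp ?_
      rw [← h]; ring
    exact_mod_cast h3.symm

theorem θ_pow {r : ZMod p} (h1 : r ≠ Dt.i) (h2 : r ≠ -Dt.i) {c : G}
    (hc : c ∈ Subgroup.centralizer (P : Set G)) (n : ℕ) : Dt.θ r (c ^ n) = Dt.θ r c ^ n := by
  induction n with
  | zero => rw [pow_zero, pow_zero, Dt.θ_one r h1 h2]
  | succ n ih => rw [pow_succ, pow_succ, Dt.θ_mul r _ (pow_mem hc n) c hc, ih]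

theorem θ_norm {r : ZMod p} (h1 : r ≠ Dt.i) (h2 : r ≠ -Dt.i) {c : G}
    (hc : c ∈ Subgroup.centralizer (P : Set G)) : ‖Dt.θ r c‖ = 1 :=
  Complex.norm_eq_one_of_pow_eq_one (n := orderOf c)
    (by rw [← Dt.θ_pow h1 h2 hc, pow_orderOf_eq_one, Dt.θ_one r h1 h2]) (orderOf_pos c).ne'

theorem θ_normSq {r : ZMod p} (h1 : r ≠ Dt.i) (h2 : r ≠ -Dt.i) {c : G}
    (hc : c ∈ Subgroup.centralizer (P : Set G)) : Complex.normSq (Dt.θ r c) = 1 := by
  rw [Complex.normSq_eq_norm_sq, Dt.θ_norm h1 h2 hc, one_pow]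

theorem θ_pm {r : ZMod p} (h : r = Dt.i ∨ r = -Dt.i) (c : G) : Dt.θ r c = 0 := by
  rcases h with rfl | rfl
  · exact Dt.θ_i c
  · exact Dt.θ_neg_i c

theorem two_ne : (2 : ZMod p) ≠ 0 := by
  intro h
  have h2 : ((2 : ℕ) : ZMod p) = 0 := by exact_mod_cast h
  rw [ZMod.natCast_eq_zero_iff] at h2
  have := Nat.le_of_dvd two_pos h2
  have := Dt.seven_le
  omega

theorem ne_neg {r : ZMod p} (hr : r ≠ 0) : r ≠ -r := fun h =>
  hr ((mul_eq_zero.1 (show (2 : ZMod p) * r = 0 by linear_combination h)).resolve_left Dt.two_ne)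

/-- Lines with a ratio different from `±1` carry the same character. -/
theorem θ_scale {u : ZMod p} (hu : u ≠ 0) (h1 : u ≠ 1) (hm1 : u ≠ -1) {s : ZMod p}
    (hs : s ≠ Dt.i ∧ s ≠ -Dt.i) (hus : u⁻¹ * s ≠ Dt.i ∧ u⁻¹ * s ≠ -Dt.i) {c : G} (hc : c ∈ Dt.K) :
    Dt.θ (u⁻¹ * s) c = Dt.θ s c := by
  set E : ZMod p → ℝ := fun s => ∑ k : Dt.K, Complex.normSq (Dt.θ (u⁻¹ * s) k - Dt.θ s k) with hE
  have hEtot : ∑ s, E s ≤ 4 * (Nat.card Dt.K : ℝ) := by
    have h := Dt.norm_sub hu one_ne_zero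
    simp only [inv_one, one_mul] at h
    rw [show ∑ s, E s = _ from h]
    split_ifs
    · positivity
    · exact le_rfl
  set T : Finset (ZMod p) := {Dt.i, -Dt.i, u * Dt.i, -(u * Dt.i)} with hT
  have hsT : s ∉ T := by
    simp only [hT, Finset.mem_insert, Finset.mem_singleton, not_or]
    exact ⟨hs.1, hs.2, fun h => hus.1 (by rw [h, inv_mul_cancel_left₀ hu]),
      fun h => hus.2 (by rw [h, mul_neg, inv_mul_cancel_left₀ hu])⟩
  have hi := Dt.i_ne
  have hui : u * Dt.i ≠ Dt.i ∧ u * Dt.i ≠ -Dt.i := by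
    refine ⟨fun h => h1 (mul_right_cancel₀ hi (h.trans (one_mul _).symm)), fun h => hm1 ?_⟩
    exact mul_right_cancel₀ hi (h.trans (neg_one_mul _).symm)
  have hui0 : u * Dt.i ≠ 0 := mul_ne_zero hu hi
  have hTc : T.card = 4 := by
    rw [hT, Finset.card_insert_of_notMem, Finset.card_insert_of_notMem,
      Finset.card_insert_of_notMem, Finset.card_singleton]
    · simp only [Finset.mem_singleton]
      exact Dt.ne_neg hui0
    · simp only [Finset.mem_insert, Finset.mem_singleton, not_or]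
      exact ⟨Ne.symm hui.2, fun h => hui.1 (neg_injective h).symm⟩
    · simp only [Finset.mem_insert, Finset.mem_singleton, not_or]
      exact ⟨Dt.ne_neg hi, Ne.symm hui.1, fun h => hui.2 (neg_eq_iff_eq_neg.1 h.symm)⟩
  have hET : ∀ q ∈ T, E q = (Nat.card Dt.K : ℝ) := by
    intro q hq
    have hval : ∀ k : Dt.K, Complex.normSq (Dt.θ (u⁻¹ * q) k - Dt.θ q k) = 1 := by
      intro k
      have hk := Dt.K_le k.2
      simp only [hT, Finset.mem_insert, Finset.mem_singleton] at hq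
      rcases hq with rfl | rfl | rfl | rfl
      · rw [Dt.θ_i, sub_zero]
        refine Dt.θ_normSq (fun h => hui.1 ?_) (fun h => hui.2 ?_) hk
        · conv_rhs => rw [← mul_inv_cancel_left₀ hu Dt.i, h]
        · conv_lhs => rw [← neg_neg Dt.i, ← h]
          rw [mul_neg, mul_inv_cancel_left₀ hu]
      · rw [Dt.θ_neg_i, sub_zero]
        refine Dt.θ_normSq (fun h => hui.2 ?_) (fun h => hui.1 ?_) hk
        · conv_lhs => rw [← h]
          rw [mul_inv_cancel_left₀ hu]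
        · have h' : u⁻¹ * Dt.i = Dt.i := neg_injective (by rw [← mul_neg, h])
          conv_rhs => rw [← mul_inv_cancel_left₀ hu Dt.i, h']
      · rw [inv_mul_cancel_left₀ hu, Dt.θ_i, zero_sub, Complex.normSq_neg]
        exact Dt.θ_normSq hui.1 hui.2 hk
      · rw [mul_neg, inv_mul_cancel_left₀ hu, Dt.θ_neg_i, zero_sub, Complex.normSq_neg]
        exact Dt.θ_normSq (fun h => hui.2 (neg_eq_iff_eq_neg.1 h))
          (fun h => hui.1 (neg_injective h)) hk
    show ∑ k : Dt.K, _ = _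
    rw [Finset.sum_congr rfl fun k _ => hval k, Finset.sum_const, Finset.card_univ,
      Nat.card_eq_fintype_card, nsmul_eq_mul, mul_one]
  have hEnn : ∀ q, 0 ≤ E q := fun q => Finset.sum_nonneg fun k _ => Complex.normSq_nonneg _
  have hEs : E s = 0 := by
    have h2 : ∑ q ∈ insert s T, E q ≤ ∑ q, E q :=
      Finset.sum_le_sum_of_subset_of_nonneg (Finset.subset_univ _) fun q _ _ => hEnn q
    rw [Finset.sum_insert hsT, Finset.sum_congr rfl hET, Finset.sum_const, hTc, nsmul_eq_mul] at h2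
    push_cast at h2
    linarith [hEnn s]
  have h3 := (Finset.sum_eq_zero_iff_of_nonneg fun (k : Dt.K) _ => Complex.normSq_nonneg _).1 hEs
    ⟨c, hc⟩ (Finset.mem_univ _)
  exact sub_eq_zero.1 (Complex.normSq_eq_zero.1 h3)

/-- All nontrivial lines carry the same character. -/
theorem θ_eq {r r' : ZMod p} (hr : r ≠ 0 ∧ r ≠ Dt.i ∧ r ≠ -Dt.i)
    (hr' : r' ≠ 0 ∧ r' ≠ Dt.i ∧ r' ≠ -Dt.i) {c : G} (hc : c ∈ Dt.K) : Dt.θ r c = Dt.θ r' c := by
  have key : ∀ a b : ZMod p, a ≠ 0 ∧ a ≠ Dt.i ∧ a ≠ -Dt.i → b ≠ 0 ∧ b ≠ Dt.i ∧ b ≠ -Dt.i →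
      a ≠ b → a ≠ -b → Dt.θ b c = Dt.θ a c := by
    intro a b ha hb hab hab'
    have hu : a * b⁻¹ ≠ 0 := mul_ne_zero ha.1 (inv_ne_zero hb.1)
    have h : (a * b⁻¹)⁻¹ * a = b := by field_simp [ha.1, hb.1]
    have h1 := Dt.θ_scale hu (fun h' => hab (by rwa [mul_inv_eq_one₀ hb.1] at h'))
      (fun h' => hab' (by rw [← mul_inv_cancel_right₀ (inv_ne_zero hb.1) a, h', inv_inv, neg_one_mul]))
      ⟨ha.2.1, ha.2.2⟩ (by rw [h]; exact ⟨hb.2.1, hb.2.2⟩) hc
    rwa [h] at h1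
  by_cases hrr : r = r'
  · rw [hrr]
  by_cases hrn : r = -r'
  · obtain ⟨s, hs⟩ := exists_avoid ({0, Dt.i, -Dt.i, r, -r} : Finset (ZMod p))
      (lt_of_le_of_lt (b := 5) Finset.card_le_five (by have := Dt.seven_le; omega))
    simp only [Finset.mem_insert, Finset.mem_singleton, not_or] at hs
    obtain ⟨h0, h1, h2, h3, h4⟩ := hs
    rw [key s r ⟨h0, h1, h2⟩ hr h3 h4, key s r' ⟨h0, h1, h2⟩ hr' (fun h => h4 (by rw [h, hrn, neg_neg]))
      (fun h => h3 (by rw [h, hrn]))]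
  · exact (key r r' hr hr' hrr hrn).symm

end Datum

end Cfsg.Agent.Fg24.SmallDeg
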